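import Mathlib.GroupTheory.Perm.Cycle.Type
import Cfsg.Agent.S0205
import Cfsg.Agent.S3861
import Cfsg.Agent.Coprime.Generation

/-!
Basic tools for the real class size graph: odd parts, lifting of inverted elements through a
normal subgroup of odd order, and transitivity of centralisers of real elements on Sylow
subgroups.
-/

set_option autoImplicit false

namespace Cfsg.Agent.RealGraph

open Subgroup
open scoped Pointwise

variable {G : Type*} [Group G]

theorem eq_one_of_odd_of_two_pow {x : G} {k : ℕ} (hx : Odd (orderOf x)) (h : x ^ 2 ^ k = 1) :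
    x = 1 :=
  orderOf_eq_one_iff.mp (Nat.eq_one_of_dvd_coprimes ((Nat.coprime_two_right.mpr hx).pow_right k)
    dvd_rfl (orderOf_dvd_of_pow_eq_one h))

theorem eq_one_of_odd_of_mem {x : G} {P : Subgroup G} (hP : IsPGroup 2 P) (hx : Odd (orderOf x))
    (hxP : x ∈ P) : x = 1 := by
  obtain ⟨k, hk⟩ := hP ⟨x, hxP⟩
  exact eq_one_of_odd_of_two_pow hx (congrArg Subtype.val hk)

theorem eq_one_of_odd_of_inv_eq {x : G} (hx : Odd (orderOf x)) (h : x⁻¹ = x) : x = 1 := by
  refine eq_one_of_odd_of_two_pow (k := 1) hx ?_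
  rw [pow_one, pow_two, ← eq_inv_iff_mul_eq_one, h]

theorem sq_ne_one_of_odd {x : G} (hx : Odd (orderOf x)) (hx1 : x ≠ 1) : x * x ≠ 1 := fun h =>
  hx1 (eq_one_of_odd_of_inv_eq hx (inv_eq_of_mul_eq_one_right h))

theorem odd_orderOf_of_dvd {x : G} {n : ℕ} (hn : Odd n) (h : x ^ n = 1) : Odd (orderOf x) :=
  hn.of_dvd_nat (orderOf_dvd_of_pow_eq_one h)

theorem odd_orderOf_of_mem [Finite G] {P : Subgroup G} (hP : Odd (Nat.card P)) {x : G}
    (hx : x ∈ P) : Odd (orderOf x) := by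
  have h := orderOf_dvd_natCard (⟨x, hx⟩ : P)
  rw [Subgroup.orderOf_mk] at h
  exact hP.of_dvd_nat h

theorem odd_pow_orderOf {x : G} (hx : Odd (orderOf x)) (n : ℕ) : Odd (orderOf (x ^ n)) :=
  odd_orderOf_of_dvd hx (by rw [← pow_mul, mul_comm, pow_mul, pow_orderOf_eq_one, one_pow])

/-- An odd power of an element which is a `2`-element. -/
theorem exists_odd_pow [Finite G] (g : G) :
    ∃ m k : ℕ, Odd m ∧ (g ^ m) ^ 2 ^ k = 1 ∧ Odd (orderOf (g ^ 2 ^ k)) := by
  obtain ⟨k, m, hm, hd⟩ := Nat.exists_eq_pow_mul_and_not_dvd (orderOf_pos g).ne' 2 (by decide)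
  have hodd : Odd m := Nat.not_even_iff_odd.mp fun h => hm (even_iff_two_dvd.mp h)
  refine ⟨m, k, hodd, ?_, odd_orderOf_of_dvd hodd ?_⟩
  · rw [← pow_mul, mul_comm, ← hd, pow_orderOf_eq_one]
  · rw [← pow_mul, ← hd, pow_orderOf_eq_one]

theorem conj_odd_pow {g x : G} (h : g * x * g⁻¹ = x⁻¹) {m : ℕ} (hm : Odd m) :
    g ^ m * x * (g ^ m)⁻¹ = x⁻¹ := by
  have h2 : Commute (g * g) x := by
    show g * g * x = x * (g * g)
    have h3 : g * x⁻¹ * g⁻¹ = x := by rw [← conj_inv, h, inv_inv]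
    calc g * g * x = g * (g * x * g⁻¹) * g⁻¹ * (g * g) := by group
      _ = x * (g * g) := by rw [h, h3]
  obtain ⟨j, rfl⟩ := hm
  have hj : Commute ((g * g) ^ j) x := h2.pow_left j
  rw [pow_succ', pow_mul, pow_two, mul_inv_rev]
  calc g * (g * g) ^ j * x * (((g * g) ^ j)⁻¹ * g⁻¹)
      = g * ((g * g) ^ j * x * ((g * g) ^ j)⁻¹) * g⁻¹ := by group
    _ = x⁻¹ := by rw [hj.eq, mul_inv_cancel_right, h]

theorem inv_pow_eq {g x : G} (h : g * x * g⁻¹ = x⁻¹) (n : ℕ) :
    g * x ^ n * g⁻¹ = (x ^ n)⁻¹ := by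
  rw [← conj_pow, h, inv_pow]

theorem isSolvable_of_odd [Finite G] (h : Odd (Nat.card G)) : Group.IsSolvable G :=
  Cfsg.Agent.S0205.result h

theorem isSolvable_of_subgroup_two {P : Subgroup G} [Finite G] (hP : IsPGroup 2 P) :
    Group.IsSolvable P := by
  have := Fact.mk Nat.prime_two
  have := hP.isNilpotent
  infer_instance

theorem isSolvable_of_quotient {N : Subgroup G} [N.Normal] (h1 : Group.IsSolvable N)
    (h2 : Group.IsSolvable (G ⧸ N)) : Group.IsSolvable G :=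
  Group.isSolvable_iff_subgroup_quotient N |>.mpr ⟨h1, h2⟩

/-- A group with a normal Sylow `2`-subgroup is soluble. -/
theorem isSolvable_of_normal_sylow [Finite G] (S : Sylow 2 G) (hS : (S : Subgroup G).Normal) :
    Group.IsSolvable G := by
  have := Fact.mk Nat.prime_two
  refine isSolvable_of_quotient (N := (S : Subgroup G)) (isSolvable_of_subgroup_two S.2)
    (isSolvable_of_odd ?_)
  rw [Nat.odd_iff, ← Nat.two_dvd_ne_zero, ← Subgroup.index_eq_card]
  exact S.not_dvd_index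

/-- A group without nontrivial real elements of odd order is soluble. -/
theorem isSolvable_of_no_real [Finite G]
    (h : ∀ x : G, x ≠ 1 → Odd (orderOf x) → ¬ IsConj x x⁻¹) : Group.IsSolvable G := by
  have := Fact.mk Nat.prime_two
  obtain ⟨S⟩ := (inferInstance : Nonempty (Sylow 2 G))
  exact isSolvable_of_normal_sylow S ((Cfsg.Agent.S3861.result S).mp h)

theorem subsingleton_of_perfect (hp : commutator G = ⊤) [Group.IsSolvable G] : Subsingleton G := by
  rcases subsingleton_or_nontrivial G with h | h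
  · exact h
  · exact absurd hp (Group.IsSolvable.commutator_lt_top_of_nontrivial G).ne

theorem perfect_of_surjective {H : Type*} [Group H] (hp : commutator G = ⊤) {f : G →* H}
    (hf : Function.Surjective f) : commutator H = ⊤ := by
  rw [commutator_def, ← map_top_of_surjective f hf, ← map_commutator, ← commutator_def, hp]

/-- A perfect group is generated by its `2`-elements. -/
theorem eq_top_of_two_elements [Finite G] (hp : commutator G = ⊤) (H : Subgroup G)
    (hH : ∀ g : G, ∀ k : ℕ, g ^ 2 ^ k = 1 → g ∈ H) : H = ⊤ := by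
  set N : Subgroup G := closure {g : G | ∃ k : ℕ, g ^ 2 ^ k = 1} with hN
  have hn : N.Normal := by
    refine ⟨fun a ha g => ?_⟩
    have hle : N ≤ N.comap (MulAut.conj g).toMonoidHom := by
      rw [hN, closure_le]
      rintro b ⟨k, hk⟩
      refine subset_closure ⟨k, ?_⟩
      change (g * b * g⁻¹) ^ 2 ^ k = 1
      rw [conj_pow, hk, mul_one, mul_inv_cancel]
    exact hle ha
  have hodd : Odd (Nat.card (G ⧸ N)) := by
    rw [Nat.odd_iff, ← Nat.two_dvd_ne_zero]
    intro h2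
    have := Fact.mk Nat.prime_two
    obtain ⟨q, hq⟩ := exists_prime_orderOf_dvd_card' 2 h2
    obtain ⟨g, rfl⟩ := QuotientGroup.mk_surjective q
    obtain ⟨m, k, hm, hgm, -⟩ := exists_odd_pow g
    have h1 : ((g ^ m : G) : G ⧸ N) = 1 :=
      (QuotientGroup.eq_one_iff _).mpr (subset_closure ⟨k, hgm⟩)
    rw [QuotientGroup.mk_pow] at h1
    have h3 := orderOf_dvd_of_pow_eq_one h1
    rw [hq] at h3
    exact (Nat.not_even_iff_odd.mpr hm) (even_iff_two_dvd.mpr h3)
  have := isSolvable_of_odd hodd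
  have := subsingleton_of_perfect (perfect_of_surjective hp (QuotientGroup.mk'_surjective N))
  refine top_le_iff.mp fun g _ => ?_
  have hg : g ∈ N := (QuotientGroup.eq_one_iff g).mp (Subsingleton.elim _ _)
  refine (closure_le H).mpr ?_ hg
  rintro a ⟨k, hk⟩
  exact hH a k hk

/-! ### Lifting through a normal subgroup of odd order -/

theorem exists_lift_inverted [Finite G] {N : Subgroup G} [N.Normal] (hN : Odd (Nat.card N))
    {g : G} {k : ℕ} (hg : g ^ 2 ^ k = 1) {q : G ⧸ N}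
    (hq : (g : G ⧸ N) * q * (g : G ⧸ N)⁻¹ = q⁻¹) :
    ∃ z : G, (z : G ⧸ N) = q ∧ g * z * g⁻¹ = z⁻¹ := by
  classical
  obtain ⟨x, rfl⟩ := QuotientGroup.mk_surjective q
  let X := {z : G // (z : G ⧸ N) = (x : G ⧸ N)}
  have := Fintype.ofFinite X
  have hcard : Fintype.card X = Nat.card N := by
    rw [← Nat.card_eq_fintype_card]
    refine Nat.card_congr
      { toFun := fun z => ⟨x⁻¹ * z.1, QuotientGroup.eq.mp z.2.symm⟩
        invFun := fun n => (⟨x * n.1, QuotientGroup.eq.mpr (by simp [n.2])⟩ : X)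
        left_inv := fun z => Subtype.ext (by simp)
        right_inv := fun n => Subtype.ext (by simp) }
  let s : Equiv.Perm G := (Equiv.inv G).trans (MulAut.conj g).toEquiv
  have hs : ∀ z : G, s z = g * z⁻¹ * g⁻¹ := fun z => rfl
  have hsX : ∀ z : G, (s z : G ⧸ N) = (x : G ⧸ N) ↔ (z : G ⧸ N) = (x : G ⧸ N) := by
    intro z
    have hx' : (g : G ⧸ N) * (x : G ⧸ N)⁻¹ * (g : G ⧸ N)⁻¹ = (x : G ⧸ N) := by
      rw [← conj_inv, hq, inv_inv]
    rw [hs, QuotientGroup.mk_mul, QuotientGroup.mk_mul, QuotientGroup.mk_inv, QuotientGroup.mk_inv]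
    constructor
    · intro h
      exact inv_injective (mul_left_cancel (mul_right_cancel (h.trans hx'.symm)))
    · intro h
      rw [h, hx']
  let σ : Equiv.Perm X := s.subtypePerm hsX
  have hσ2 : ∀ z : X, ((σ ^ 2) z).1 = g ^ 2 * z.1 * (g ^ 2)⁻¹ := by
    intro z
    rw [pow_two σ, Equiv.Perm.mul_apply]
    change s (s z.1) = _
    rw [hs, hs, pow_two]
    group
  have hσn : ∀ (n : ℕ) (z : X),
      (((σ ^ 2) ^ n) z).1 = (g ^ 2) ^ n * z.1 * ((g ^ 2) ^ n)⁻¹ := by
    intro n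
    induction n with
    | zero => intro z; simp
    | succ n ih =>
      intro z
      rw [pow_succ' (σ ^ 2), Equiv.Perm.mul_apply, hσ2, ih, pow_succ' (g ^ 2)]
      group
  have hσ : σ ^ 2 ^ (k + 1) = 1 := by
    refine Equiv.ext fun z => Subtype.ext ?_
    rw [pow_succ', pow_mul, hσn, ← pow_mul, ← pow_succ', pow_succ, pow_mul, hg]
    simp
  have := Fact.mk Nat.prime_two
  obtain ⟨z, hz⟩ := Equiv.Perm.exists_fixed_point_of_prime (p := 2) (n := k + 1)
    (by rw [hcard]; exact Nat.two_dvd_ne_zero.mpr (Nat.odd_iff.mp hN)) hσ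
  refine ⟨z.1, z.2, ?_⟩
  have hz' : g * z.1⁻¹ * g⁻¹ = z.1 := congrArg Subtype.val hz
  have := congrArg (·⁻¹) hz'
  simpa [mul_assoc] using this

theorem exists_lift_real [Finite G] {N : Subgroup G} [N.Normal] (hN : Odd (Nat.card N))
    {q : G ⧸ N} (hq : IsConj q q⁻¹) : ∃ z : G, (z : G ⧸ N) = q ∧ IsConj z z⁻¹ := by
  obtain ⟨c, hc⟩ := isConj_iff.mp hq
  obtain ⟨g, rfl⟩ := QuotientGroup.mk_surjective c
  obtain ⟨m, k, hm, hgm, -⟩ := exists_odd_pow g
  obtain ⟨z, hz, hzg⟩ := exists_lift_inverted hN hgm (q := q)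
    (by rw [QuotientGroup.mk_pow]; exact conj_odd_pow hc hm)
  exact ⟨z, hz, isConj_iff.mpr ⟨_, hzg⟩⟩

theorem odd_orderOf_lift [Finite G] {N : Subgroup G} [N.Normal] (hN : Odd (Nat.card N)) {z : G}
    (hz : Odd (orderOf (z : G ⧸ N))) : Odd (orderOf z) := by
  refine odd_orderOf_of_dvd (hz.mul hN) ?_
  have hmem : z ^ orderOf (z : G ⧸ N) ∈ N := by
    rw [← QuotientGroup.eq_one_iff, QuotientGroup.mk_pow, pow_orderOf_eq_one]
  have h := pow_card_eq_one' (x := (⟨_, hmem⟩ : N))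
  rw [pow_mul]
  exact congrArg Subtype.val h

/-! ### Transitivity on Sylow subgroups -/

/-- Centralisers of nontrivial real elements of odd order are transitive on Sylow
`2`-subgroups. -/
def SylTrans (G : Type*) [Group G] : Prop :=
  ∀ x : G, IsConj x x⁻¹ → x ≠ 1 → Odd (orderOf x) → ∀ S S' : Sylow 2 G,
    ∃ c : G, Commute c x ∧ c • S = S'

theorem sylTrans_of_surjective [Finite G] {H : Type*} [Group H] (h : SylTrans G) {f : G →* H}
    (hf : Function.Surjective f)
    (hlift : ∀ q : H, IsConj q q⁻¹ → q ≠ 1 → Odd (orderOf q) →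
      ∃ x : G, f x = q ∧ IsConj x x⁻¹ ∧ Odd (orderOf x)) : SylTrans H := by
  intro q hq hq1 hqo S S'
  have := Fact.mk Nat.prime_two
  obtain ⟨x, hfx, hx, hxo⟩ := hlift q hq hq1 hqo
  obtain ⟨T, rfl⟩ := Sylow.mapSurjective_surjective hf 2 S
  obtain ⟨T', rfl⟩ := Sylow.mapSurjective_surjective hf 2 S'
  obtain ⟨c, hc, hcT⟩ := h x hx (fun h1 => hq1 (by rw [← hfx, h1, map_one])) hxo T T'
  refine ⟨f c, hfx ▸ hc.map f, Sylow.ext ?_⟩
  rw [Sylow.coe_subgroup_smul]
  change MulAut.conj (f c) • (T : Subgroup G).map f = (T' : Subgroup G).map f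
  rw [← hcT, Sylow.coe_subgroup_smul]
  ext y
  rw [Coprime.mem_conj_smul]
  constructor
  · intro hy
    obtain ⟨a, ha, hay⟩ := hy
    refine ⟨c * a * c⁻¹, ?_, by simp [map_mul, map_inv, hay, mul_assoc]⟩
    rw [SetLike.mem_coe, Coprime.mem_conj_smul]
    have hca : c⁻¹ * (c * a * c⁻¹) * c = a := by group
    rw [hca]
    exact ha
  · rintro ⟨a, ha, rfl⟩
    rw [SetLike.mem_coe, Coprime.mem_conj_smul] at ha
    exact ⟨_, ha, by simp [map_mul, map_inv]⟩

/-! ### Fixed points of commuting automorphisms of an elementary abelian `2`-group -/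

variable {V : Type*} [CommGroup V]

/-- `g` acts without fixed points. -/
def FPF (α : MulAut V) : Prop := ∀ v : V, α v = v → v = 1

theorem eq_one_of_fpf (hV : ∀ v : V, v * v = 1) {α β : MulAut V} {r : ℕ} (hr : r.Prime)
    (hr2 : r ≠ 2) (hα : α ^ r = 1) (hβ : β ^ r = 1) (hc : Commute α β)
    (h : ∀ k : ℕ, FPF (α ^ k * β)) : α = 1 := by
  ext v
  obtain ⟨j, hj⟩ := hr.odd_of_ne_two hr2
  have hv : v ^ r = v := by rw [hj, pow_succ, pow_mul, pow_two, hV, one_pow, one_mul]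
  have hle : closure {w : V | α w = w ∨ ∃ k : ℕ, (α ^ k * β) w = w} ≤
      α.toMonoidHom.eqLocus (MonoidHom.id V) := by
    rw [closure_le]
    rintro w (hw | ⟨k, hk⟩)
    · exact hw
    · rw [h k w hk]
      exact one_mem _
  have := hle (Coprime.pow_mem_closure_fixed hr hα hβ hc v)
  rw [hv] at this
  exact this

theorem no_fpf_pair [Nontrivial V] (hV : ∀ v : V, v * v = 1) {α β : MulAut V} {r : ℕ}
    (hr : r.Prime) (hr2 : r ≠ 2) (hα : α ^ r = 1) (hβ : β ^ r = 1) (hc : Commute α β)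
    (h : ∀ k : ℕ, FPF (α ^ k * β)) : ¬ FPF α := by
  intro hfix
  obtain ⟨v, hv⟩ := exists_ne (1 : V)
  exact hv (hfix v (by rw [eq_one_of_fpf hV hr hr2 hα hβ hc h]; rfl))

end Cfsg.Agent.RealGraph
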