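import Cfsg.Agent.RealGraph.Key
import Cfsg.Agent.Invol.ZStar

/-!
A finite group without nontrivial soluble normal subgroups in which centralisers of real elements
of odd order are transitive on Sylow `2`-subgroups and inverted elements have rank at most one
is soluble.
-/

set_option autoImplicit false

namespace Cfsg.Agent.RealGraph

open Subgroup
open scoped Pointwise

theorem eq_of_factor {A T : Type*} [Finite T] (σ φ : A → T) (hσ : Function.Surjective σ)
    (h : ∀ a b, φ a = φ b → σ a = σ b) {a b : A} (hab : σ a = σ b) : φ a = φ b := by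
  let f : T → T := fun x => φ (Function.surjInv hσ x)
  have hf : Function.Injective f := by
    intro x y hxy
    have := h _ _ hxy
    rwa [Function.surjInv_eq hσ, Function.surjInv_eq hσ] at this
  have hsurj : Function.Surjective f := Finite.surjective_of_injective hf
  have key : ∀ a, φ a = f (σ a) := by
    intro a
    obtain ⟨x, hx⟩ := hsurj (φ a)
    have := h _ _ hx
    rw [Function.surjInv_eq hσ] at this
    rw [← this, hx]
  rw [key a, key b, hab]

variable {G : Type*} [Group G] [Finite G]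

theorem mem_of_mem_normalizer {S : Sylow 2 G} {h : G} (hn : h ∈ normalizer (S : Set G)) {k : ℕ}
    (hk : h ^ 2 ^ k = 1) : h ∈ S := by
  have hp : IsPGroup 2 (zpowers h) := by
    rintro ⟨a, ha⟩
    obtain ⟨i, rfl⟩ := mem_zpowers_iff.mp ha
    refine ⟨k, Subtype.ext ?_⟩
    rw [SubmonoidClass.coe_pow, OneMemClass.coe_one, ← zpow_natCast, ← zpow_mul, mul_comm,
      zpow_mul, zpow_natCast, hk, one_zpow]
  have h' : h ∈ zpowers h ⊓ normalizer (S : Set G) := ⟨mem_zpowers h, hn⟩
  rw [hp.inf_normalizer_sylow] at h'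
  exact h'.2

theorem inv_eq_conj {a b : G} (ha : orderOf a = 2) (hb : orderOf b = 2) :
    a * (a * b) * a⁻¹ = (a * b)⁻¹ :=
  Invol.conj_mul_self ha hb

/-- Two involutions with product of `2`-power order lie in a `2`-subgroup. -/
theorem exists_isPGroup_pair {a b : G} (ha : orderOf a = 2) (hb : orderOf b = 2) {k : ℕ}
    (hk : (a * b) ^ 2 ^ k = 1) : IsPGroup 2 (closure ({a, b} : Set G)) := by
  intro w
  refine ⟨k + 1, Subtype.ext ?_⟩
  rw [SubmonoidClass.coe_pow, OneMemClass.coe_one]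
  obtain ⟨j, hj | hj⟩ := Invol.closure_mem ha hb w.2
  · rw [hj, ← zpow_natCast, ← zpow_mul, mul_comm j, zpow_mul, zpow_natCast, pow_succ, pow_mul,
      hk, one_pow, one_zpow]
  · rw [hj, pow_succ', pow_mul, pow_two, Invol.sq_self_mul_zpow ha hb, one_pow]

namespace TopHyp

variable (hG : TopHyp G) {S : Sylow 2 G}
include hG

section Maximal

variable {M : Subgroup G} {Y : Subgroup G} {u : G}

/-- A maximality argument. -/
theorem commute_mem_normalizer {y : G}
    (hmax : ∀ h w : G, h ≠ 1 → Odd (orderOf h) → w ∈ omega S → w * h * w⁻¹ = h⁻¹ →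
      Nat.card (omega S ⊓ centralizer ({h} : Set G) : Subgroup G) ≤
        Nat.card (omega S ⊓ centralizer ({y} : Set G) : Subgroup G))
    (hY : Y = omega S ⊓ centralizer ({y} : Set G)) (hu : u ∈ omega S) (huY : u ∉ Y) {m : G}
    (hm : ∀ v ∈ Y, Commute m v) (hmu : Commute m u) : m ∈ normalizer (S : Set G) := by
  have := Fact.mk Nat.prime_two
  by_contra hmS
  set M₂ : Subgroup G := centralizer (insert u (Y : Set G)) with hM₂
  have hmM : m ∈ M₂ := by
    intro v hv
    rcases hv with rfl | hv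
    · exact hmu.symm.eq
    · exact (hm v hv).symm.eq
  have hYΩ : Y ≤ omega S := hY ▸ inf_le_left
  have hSM : (S : Subgroup G) ≤ M₂ := by
    intro s hs v hv
    rcases hv with rfl | hv
    · exact (hu.2.2 s hs).eq
    · exact ((hYΩ hv).2.2 s hs).eq
  obtain ⟨w, hw, hwn⟩ : ∃ w ∈ omega S, w ∉ m • S := by
    by_contra hcon
    push Not at hcon
    exact hmS (Sylow.smul_eq_iff_mem_normalizer.mp (hG.eq_of_omega_le hcon))
  have hwM : w ∈ M₂ := hSM hw.1
  have hw1 : w ≠ 1 := fun h => hwn (h ▸ one_mem _)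
  have hw2 : orderOf (⟨w, hwM⟩ : M₂) = 2 := by
    rw [← orderOf_coe]; exact orderOf_omega hw hw1
  obtain ⟨g, h, h1, h2, h3, -⟩ := Invol.exists_inverted_odd hw2 fun N hN hNp hmem => by
    have hle : N ≤ ((⟨m, hmM⟩ : M₂) • S.subtype hSM : Sylow 2 M₂) :=
      (Core.le_pCore hNp).trans (Core.pCore_le_sylow _)
    have h' := hle hmem
    rw [Sylow.smul_subtype] at h'
    exact hwn h'
  have hle := hmax (h : G) w (fun h' => h1 (Subtype.ext h')) (by rwa [orderOf_coe]) hw
    (by simpa using congrArg Subtype.val h3)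
  have hsub : Y ≤ omega S ⊓ centralizer ({(h : G)} : Set G) := fun v hv =>
    ⟨hYΩ hv, mem_centralizer_singleton_iff.mpr (mem_centralizer_iff.mp h.2 v (Or.inr hv))⟩
  have heq := eq_of_le_of_card_ge hsub (hY ▸ hle)
  refine huY (heq.symm ▸ (show u ∈ omega S ⊓ centralizer ({(h : G)} : Set G) from
    ⟨hu, mem_centralizer_singleton_iff.mpr (mem_centralizer_iff.mp h.2 u (Or.inl rfl))⟩))

end Maximal

theorem isSolvable : Group.IsSolvable G := by
  classical
  have := Fact.mk Nat.prime_two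
  by_contra hns
  obtain ⟨x, hx1, hxo, hx⟩ : ∃ x : G, x ≠ 1 ∧ Odd (orderOf x) ∧ IsConj x x⁻¹ := by
    by_contra hcon
    push Not at hcon
    exact hns (isSolvable_of_no_real hcon)
  obtain ⟨S⟩ := (inferInstance : Nonempty (Sylow 2 G))
  obtain ⟨v₀, hv₀, hv₁⟩ : ∃ v ∈ omega S, v ≠ 1 := by
    by_contra hcon
    push Not at hcon
    exact hG.not_normalized hx hx1 hxo S fun v hv => by
      rw [hcon v hv, one_mul, inv_one, mul_one]
      exact mem_zpowers x
  obtain ⟨y₀, hy₀⟩ := hG.exists_inverted hv₀ hv₁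
  obtain ⟨y, ⟨hy, hyo, w₀, hw₀, hwy⟩, hmax⟩ := Set.exists_max_image
    {y : G | y ≠ 1 ∧ Odd (orderOf y) ∧ ∃ w ∈ omega S, w * y * w⁻¹ = y⁻¹}
    (fun y => Nat.card (omega S ⊓ centralizer ({y} : Set G) : Subgroup G)) (Set.toFinite _)
    ⟨y₀, hy₀.1, hy₀.2.1, v₀, hv₀, hy₀.2.2⟩
  have hmax' : ∀ h w : G, h ≠ 1 → Odd (orderOf h) → w ∈ omega S → w * h * w⁻¹ = h⁻¹ →
      Nat.card (omega S ⊓ centralizer ({h} : Set G) : Subgroup G) ≤
        Nat.card (omega S ⊓ centralizer ({y} : Set G) : Subgroup G) :=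
    fun h w h1 h2 h3 h4 => hmax h ⟨h1, h2, w, h3, h4⟩
  have hyreal : IsConj y y⁻¹ := isConj_iff.mpr ⟨w₀, hwy⟩
  set Y : Subgroup G := omega S ⊓ centralizer ({y} : Set G) with hY
  have hYΩ : Y ≤ omega S := inf_le_left
  have hw₀Y : w₀ ∉ Y := fun h => hy (eq_one_of_odd_of_inv_eq hyo (by
    rw [← hwy, mem_centralizer_singleton_iff.mp h.2, mul_inv_cancel_right]))
  set M : Subgroup G := centralizer (Y : Set G) with hM
  have hyM : y ∈ M := fun v hv => mem_centralizer_singleton_iff.mp hv.2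
  have hSM : (S : Subgroup G) ≤ M := fun s hs v hv => ((hYΩ hv).2.2 s hs).eq
  suffices hMS : M ≤ normalizer (S : Set G) from hG.notMem_normalizer hyreal hy hyo S (hMS hyM)
  by_contra hMS
  have hMc : ∀ {m : G}, m ∈ M → ∀ v ∈ Y, Commute m v := fun hm v hv =>
    (mem_centralizer_iff.mp hm v hv).symm
  have hA : ∀ {u : G}, u ∈ omega S → u ∉ Y → ∀ {m : G}, m ∈ M → Commute m u →
      m ∈ normalizer (S : Set G) := fun hu huY _ hm hmu =>
    hG.commute_mem_normalizer hmax' hY hu huY (hMc hm) hmu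
  have hsmulM : ∀ {m : G}, m ∈ M → ((m • S : Sylow 2 G) : Subgroup G) ≤ M := fun hm a ha => by
    have := mul_mem (mul_mem hm (hSM (mem_smul_sylow.mp ha))) (inv_mem hm)
    simpa [mul_assoc] using this
  have huniq : ∀ {u : G}, u ∈ omega S → u ∉ Y → ∀ {m m' : G}, m ∈ M → m' ∈ M →
      m * u * m⁻¹ ∈ m' • S → m' • S = m • S := by
    intro u hu huY m m' hm hm' hmem
    set n := m⁻¹ * m' with hn
    have hn' : n ∈ M := mul_mem (inv_mem hm) hm'
    have hun : u ∈ n • S := by
      rw [mem_smul_sylow, hn]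
      simpa [mul_assoc] using mem_smul_sylow.mp hmem
    have hcu := (hG.mem_omega_of_mem hu hun).2.2
    have heq : n • S = S := eq_of_le_normalizer fun a ha =>
      hA hu huY (hsmulM hn' ha) (hcu a ha).symm
    calc m' • S = m • (n • S) := by rw [smul_smul, hn, mul_inv_cancel_left]
      _ = m • S := by rw [heq]
  have hnotCore : ∀ {u : G}, u ∈ omega S → u ∉ Y → ∀ (huM : u ∈ M),
      (⟨u, huM⟩ : M) ∉ Cfsg.pCore 2 M := by
    intro u hu huY huM hcore
    refine hMS fun m hm => ?_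
    have h1 := (Core.pCore_normal (p := 2) (G := M)).conj_mem _ hcore ⟨m, hm⟩
    have h2 : m * u * m⁻¹ ∈ S := Core.pCore_le_sylow (S.subtype hSM) h1
    have h3 := hG.conj_mem_omega_of_mem hu h2
    have h4 : m * u * m⁻¹ ∉ Y := fun h => huY (by
      have hc := hMc hm _ h
      have e : m * (m * u * m⁻¹) = m * u := hc.eq.trans (inv_mul_cancel_right _ _)
      rwa [mul_left_cancel e] at h)
    have h5 : m • S = S := eq_of_le_normalizer fun a ha => by
      refine hA h3 h4 (hsmulM hm ha) ?_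
      exact ((conj_mem_omega_smul (g := m) hu).2.2 a ha).symm
    exact Sylow.smul_eq_iff_mem_normalizer.mp h5
  have hdiff : ∀ {u : G}, u ∈ omega S → u ∉ Y → ∀ {m : G}, m ∈ M → m * u * m⁻¹ ∈ S →
      u * (m * u * m⁻¹) ∈ Y := by
    intro u hu huY m hm hmS
    set u' := m * u * m⁻¹ with hu'
    have huM : u ∈ M := hSM hu.1
    have hu'Ω : u' ∈ omega S := hG.conj_mem_omega_of_mem hu hmS
    have hu1 : u ≠ 1 := fun h => huY (h ▸ one_mem _)
    let A := {a : G // ∃ n ∈ M, n * u * n⁻¹ = a}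
    let T := {S' : Sylow 2 G // ∃ n ∈ M, n • S = S'}
    let σ : A → T := fun a => ⟨a.2.choose • S, a.2.choose, a.2.choose_spec.1, rfl⟩
    have hσ : ∀ (a : A) (n : G), n ∈ M → a.1 ∈ n • S → (σ a).1 = n • S := by
      intro a n hn ha
      have h := huniq hu huY a.2.choose_spec.1 hn (by rw [a.2.choose_spec.2]; exact ha)
      exact h.symm
    have hσs : Function.Surjective σ := by
      rintro ⟨S', n, hn, rfl⟩
      exact ⟨⟨n * u * n⁻¹, n, hn, rfl⟩, Subtype.ext (hσ _ n hn (conj_mem_smul hu.1))⟩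
    have hAM : ∀ a : A, a.1 ∈ M := fun a => by
      obtain ⟨n, hn, ha⟩ := a.2
      exact ha ▸ mul_mem (mul_mem hn huM) (inv_mem hn)
    have hA2 : ∀ a : A, orderOf a.1 = 2 := fun a => by
      obtain ⟨n, hn, ha⟩ := a.2
      rw [← ha, Invol.orderOf_conj, orderOf_omega hu hu1]
    have hall : ∀ n ∈ M, u * u' ∈ n • S := by
      intro n₀ hn₀
      let φ : A → T := fun a => ⟨a.1 • (n₀ • S), a.1 * n₀, mul_mem (hAM a) hn₀, by rw [smul_smul]⟩
      have hfac : ∀ a b, φ a = φ b → σ a = σ b := by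
        intro a b hab
        have hN : a.1 * b.1 ∈ normalizer ((n₀ • S : Sylow 2 G) : Set G) := by
          refine Sylow.smul_eq_iff_mem_normalizer.mp ?_
          rw [mul_smul, ← (show a.1 • n₀ • S = b.1 • n₀ • S from congrArg Subtype.val hab), smul_smul, Invol.mul_self_eq_one (hA2 a),
            one_smul]
        obtain ⟨i, k, -, -, hk⟩ := exists_odd_pow (a.1 * b.1)
        have hk1 : (a.1 * b.1) ^ 2 ^ k = 1 := by
          by_contra hne
          refine hG.notMem_normalizer (isConj_iff.mpr ⟨a.1, ?_⟩) hne hk (n₀ • S)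
            (pow_mem hN _)
          exact inv_pow_eq (inv_eq_conj (hA2 a) (hA2 b)) _
        obtain ⟨n, hn, hle⟩ := exists_smul_of_isPGroup (exists_isPGroup_pair (hA2 a) (hA2 b) hk1)
          (M := M) ((closure_le M).mpr (by rintro z (rfl | rfl) <;> exact hAM _)) hSM
        exact Subtype.ext ((hσ a n hn (hle Invol.self_mem_closure)).trans
          (hσ b n hn (hle Invol.other_mem_closure)).symm)
      have h := eq_of_factor σ φ hσs hfac
        (a := ⟨u, 1, one_mem M, by group⟩) (b := ⟨u', m, hm, rfl⟩)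
        (Subtype.ext ((hσ _ 1 (one_mem M) (by rw [one_smul]; exact hu.1)).trans
          (hσ _ 1 (one_mem M) (by rw [one_smul]; exact hmS)).symm))
      have h' : u • n₀ • S = u' • n₀ • S := congrArg Subtype.val h
      have hmem : u * u' ∈ normalizer ((n₀ • S : Sylow 2 G) : Set G) := by
        refine Sylow.smul_eq_iff_mem_normalizer.mp ?_
        rw [mul_smul, ← h', smul_smul, hu.2.1, one_smul]
      exact mem_of_mem_normalizer hmem (k := 1) (by
        rw [pow_one, pow_two]; exact (mul_mem hu hu'Ω : u * u' ∈ omega S).2.1)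
    have huu' : u * u' ∈ omega S := mul_mem hu hu'Ω
    by_contra hnY
    refine hnotCore huu' hnY (hSM huu'.1) (mem_pCore_of_forall_sylow fun Q => ?_)
    obtain ⟨n, hn, hle⟩ := exists_smul_of_isPGroup (Q.2.map M.subtype) (map_subtype_le _) hSM
    have hQ : ((n • S : Sylow 2 G) : Subgroup G).subgroupOf M = (Q : Subgroup M) :=
      Q.3 ((n • S).2.comap_subtype) fun a ha => hle (mem_map_of_mem _ ha)
    have : (⟨u * u', hSM huu'.1⟩ : M) ∈ ((n • S : Sylow 2 G) : Subgroup G).subgroupOf M :=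
      hall n hn
    rw [hQ] at this
    exact this
  -- the quotient by `Y`
  set YM : Subgroup M := Y.subgroupOf M with hYM
  have hYn : YM.Normal := by
    refine ⟨fun a ha g => ?_⟩
    rw [hYM, mem_subgroupOf] at ha ⊢
    rw [Subgroup.coe_mul, Subgroup.coe_mul, Subgroup.coe_inv, (hMc g.2 _ ha).eq,
      mul_inv_cancel_right]
    exact ha
  set π := QuotientGroup.mk' YM with hπ
  have hπeq : ∀ {a : M}, π a = 1 ↔ (a : G) ∈ Y := fun {a} =>
    (QuotientGroup.eq_one_iff a).trans mem_subgroupOf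
  set W : Subgroup (M ⧸ YM) := ((normalizer (S : Set G)).comap M.subtype).map π with hW
  have hsq : ∀ {a : G} (ha : a ∈ omega S), (⟨a, hSM ha.1⟩ : M) * ⟨a, hSM ha.1⟩ = 1 :=
    fun ha => Subtype.ext ha.2.1
  have hCu : ∀ {u : G} (hu : u ∈ omega S), u ∉ Y →
      centralizer {π ⟨u, hSM hu.1⟩} ≤ W := by
    intro u hu huY q hq
    obtain ⟨m, rfl⟩ := QuotientGroup.mk'_surjective YM q
    refine mem_map_of_mem π (Sylow.smul_eq_iff_mem_normalizer.mp ?_)
    have hm : π (m * ⟨u, hSM hu.1⟩ * m⁻¹ * ⟨u, hSM hu.1⟩⁻¹) = 1 := by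
      rw [map_mul, map_mul, map_mul, map_inv, map_inv]
      have e := mem_centralizer_singleton_iff.mp hq
      rw [← hπ] at e
      rw [e, mul_inv_cancel_right, mul_inv_cancel]
    have hmS : (m : G) * u * (m : G)⁻¹ ∈ (1 : G) • S := by
      rw [one_smul]
      have h1 := mul_mem (omega_le S (hYΩ (hπeq.mp hm))) (omega_le S hu)
      have e : ((m * ⟨u, hSM hu.1⟩ * m⁻¹ * ⟨u, hSM hu.1⟩⁻¹ : M) : G) * u
          = (m : G) * u * (m : G)⁻¹ := by simp [mul_assoc]
      rw [e] at h1
      exact h1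
    have := huniq hu huY m.2 (one_mem M) hmS
    rw [one_smul] at this
    exact this.symm
  have hne : ∀ {u : G} (hu : u ∈ omega S), u ∉ Y → π ⟨u, hSM hu.1⟩ ≠ 1 :=
    fun _ huY h => huY (hπeq.mp h)
  have hiso : ∀ {u : G} (hu : u ∈ omega S), u ∉ Y →
      Cfsg.IsIsolatedInvolution (π ⟨u, hSM hu.1⟩) := by
    intro u hu huY
    refine ⟨Invol.orderOf_eq_two_iff.mpr ⟨hne hu huY, by rw [← map_mul, hsq hu, map_one]⟩,
      fun g hg => ?_⟩
    obtain ⟨m, rfl⟩ := QuotientGroup.mk'_surjective YM g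
    rw [← map_inv, ← map_mul, ← map_mul] at hg ⊢
    set u' := (m : G) * u * (m : G)⁻¹ with hu'
    have hu1 : u ≠ 1 := fun h => huY (h ▸ one_mem _)
    have ho : orderOf u = 2 := orderOf_omega hu hu1
    have ho' : orderOf u' = 2 := by rw [hu', Invol.orderOf_conj, ho]
    have hY2 : (u * u') * (u * u') ∈ Y := by
      have h1 : π (⟨u, hSM hu.1⟩ * (m * ⟨u, hSM hu.1⟩ * m⁻¹) *
          (⟨u, hSM hu.1⟩ * (m * ⟨u, hSM hu.1⟩ * m⁻¹))) = 1 := by
        rw [map_mul, map_mul, hg.symm.mul_mul_mul_comm, ← map_mul, ← map_mul, ← map_mul, hsq hu,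
          show m * ⟨u, hSM hu.1⟩ * m⁻¹ * (m * ⟨u, hSM hu.1⟩ * m⁻¹) = (1 : M) by
            rw [conj_mul, hsq hu, mul_one, mul_inv_cancel], mul_one, map_one]
      exact hπeq.mp h1
    have hk : (u * u') ^ 2 ^ 2 = 1 := by
      rw [show (2 : ℕ) ^ 2 = 2 * 2 from rfl, pow_mul, pow_two, pow_two]
      exact (hYΩ hY2).2.1
    obtain ⟨n, hn, hle⟩ := exists_smul_of_isPGroup (exists_isPGroup_pair ho ho' hk) (M := M)
      ((closure_le M).mpr (by
        rintro z (rfl | rfl)
        · exact hSM hu.1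
        · exact mul_mem (mul_mem m.2 (hSM hu.1)) (inv_mem m.2))) hSM
    have h1 : n • S = (1 : G) • S :=
      huniq hu huY (one_mem M) hn (by rw [one_mul, inv_one, mul_one]; exact hle Invol.self_mem_closure)
    rw [one_smul] at h1
    have h2 : u' ∈ S := h1 ▸ hle Invol.other_mem_closure
    have h3 : π (⟨u, hSM hu.1⟩ * (m * ⟨u, hSM hu.1⟩ * m⁻¹)) = 1 :=
      hπeq.mpr (hdiff hu huY m.2 h2)
    rw [map_mul, mul_eq_one_iff_eq_inv] at h3
    rw [← inv_injective.eq_iff, ← h3, ← map_inv]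
    exact congrArg π (inv_eq_of_mul_eq_one_right (hsq hu)).symm
  obtain ⟨u, hu, huY, w, hw, hwY, huwY⟩ : ∃ u ∈ omega S, u ∉ Y ∧
      ∃ w ∈ omega S, w ∉ Y ∧ u * w ∉ Y := by
    by_contra hcon
    push Not at hcon
    refine hG.not_normalized hyreal hy hyo S fun v hv => ?_
    by_cases hvY : v ∈ Y
    · rw [mem_centralizer_singleton_iff.mp hvY.2, mul_inv_cancel_right]
      exact mem_zpowers y
    · have h := hcon v hv hvY w₀ hw₀ hw₀Y
      have hc : (v * w₀) * y = y * (v * w₀) := mem_centralizer_singleton_iff.mp h.2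
      have e : v * y * v⁻¹ = y⁻¹ := by
        have h2 : v * w₀ * y * (v * w₀)⁻¹ = y := by rw [hc, mul_inv_cancel_right]
        calc v * y * v⁻¹ = v * w₀ * (w₀⁻¹ * y * w₀) * (v * w₀)⁻¹ := by group
          _ = v * w₀ * y⁻¹ * (v * w₀)⁻¹ := by
            rw [← hwy, inv_eq_of_mem_omega hw₀]
          _ = y⁻¹ := by rw [← conj_inv, h2]
      rw [e]
      exact inv_mem (mem_zpowers y)
  set a := π ⟨u, hSM hu.1⟩ with ha
  set b := π ⟨w, hSM hw.1⟩ with hb
  have hab : Commute a b :=
    (show Commute (⟨u, hSM hu.1⟩ : M) ⟨w, hSM hw.1⟩ from Subtype.ext (hu.2.2 w hw.1).eq).map π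
  have ha2 : a ^ 2 = 1 := by rw [pow_two, ha, ← map_mul, hsq hu, map_one]
  have hb2 : b ^ 2 = 1 := by rw [pow_two, hb, ← map_mul, hsq hw, map_one]
  set K : Subgroup (M ⧸ YM) := Cfsg.oddCore (M ⧸ YM) with hK
  have hKodd : (Nat.card K).Coprime 2 := Core.coprime_card_pPrimeCore
  have hKn : (normalizer (K : Set (M ⧸ YM))) = ⊤ := by
    have : K.Normal := Core.pPrimeCore_normal
    exact normalizer_eq_top K
  have hKW : K ≤ W := by
    refine Coprime.le_of_centralizers_le hab (hKn ▸ mem_top a) (hKn ▸ mem_top b) Nat.prime_two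
      (ha2.symm ▸ one_mem _) (hb2.symm ▸ one_mem _) hKodd.symm ?_
      (inf_le_right.trans (hCu hu huY)) fun k => inf_le_right.trans ?_
    · have hp : IsPGroup 2 (closure ({a, b} : Set (M ⧸ YM))) := by
        have hle : closure ({a, b} : Set (M ⧸ YM)) ≤ ((S : Subgroup G).subgroupOf M).map π :=
          (closure_le _).mpr (by
            rintro z (rfl | rfl)
            · exact mem_map_of_mem π (show (⟨u, hSM hu.1⟩ : M) ∈ _ from hu.1)
            · exact mem_map_of_mem π (show (⟨w, hSM hw.1⟩ : M) ∈ _ from hw.1))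
        exact ((S.2.comap_subtype (K := M)).map π).to_le hle
      obtain ⟨e, he⟩ := IsPGroup.iff_card.mp hp
      rw [he]
      exact hKodd.symm.pow_left e
    · rcases Nat.even_or_odd' k with ⟨i, rfl | rfl⟩
      · rw [pow_mul, ha2, one_pow, one_mul]
        exact hCu hw hwY
      · rw [pow_succ, pow_mul, ha2, one_pow, one_mul]
        have e : a * b = π ⟨u * w, hSM (mul_mem hu hw : u * w ∈ omega S).1⟩ := by
          rw [ha, hb, ← map_mul]
          rfl
        rw [e]
        exact hCu (mul_mem hu hw) huwY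
  refine hMS fun m hm => ?_
  have hmW : π ⟨m, hm⟩ ∈ W := by
    set q := π ⟨m, hm⟩
    have hz := Invol.zstar (hiso hu huY) q
    rw [← ha, ← hK] at hz
    set t := q * a * q⁻¹ with ht
    have hta : orderOf a = 2 := (hiso hu huY).1
    have htt : orderOf t = 2 := by rw [ht, Invol.orderOf_conj, hta]
    have hatK : a * t ∈ K := by
      have e : a * t = a * q * a⁻¹ * q⁻¹ := by rw [ht, Invol.inv_eq_self hta]; group
      rwa [e]
    obtain ⟨d, hd, hdt⟩ := Invol.exists_conj_of_odd hta htt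
      (odd_orderOf_of_mem (Nat.coprime_two_right.mp hKodd) hatK)
    have hq : ∀ d : M ⧸ YM, d ∈ K → d * a * d⁻¹ = t → q ∈ W := by
      intro d hd hdt
      have hc : d⁻¹ * q ∈ centralizer {a} := by
        refine mem_centralizer_singleton_iff.mpr ?_
        calc d⁻¹ * q * a = d⁻¹ * (q * a * q⁻¹) * q := by group
          _ = d⁻¹ * (d * a * d⁻¹) * q := by rw [hdt, ht]
          _ = a * (d⁻¹ * q) := by group
      have := mul_mem (hKW hd) (hCu hu huY hc)
      rwa [mul_inv_cancel_left] at this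
    obtain ⟨k, hk | hk⟩ := Invol.closure_mem hta htt hd
    · exact hq d (hk ▸ zpow_mem hatK k) hdt
    · refine hq (d * a) ?_ ?_
      · rw [hk, mul_assoc, Invol.zpow_mul_self hta htt, Invol.mul_mul_cancel_self hta]
        exact zpow_mem hatK _
      · calc d * a * a * (d * a)⁻¹ = d * a * d⁻¹ := by group
          _ = t := hdt
  obtain ⟨n, hn, hnm⟩ := hmW
  have h1 : (n : G)⁻¹ * m ∈ Y := mem_subgroupOf.mp (QuotientGroup.eq.mp hnm)
  have := mul_mem (show (n : G) ∈ normalizer (S : Set G) from hn)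
    (le_normalizer (omega_le S (hYΩ h1)))
  rwa [mul_inv_cancel_left] at this

end TopHyp

end Cfsg.Agent.RealGraph
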