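import Mathlib.RingTheory.ZMod.UnitsCyclic
import Mathlib.GroupTheory.Transfer
import Mathlib.GroupTheory.SpecificGroups.Cyclic
import Cfsg.Agent.RealGraph.Top
import Cfsg.Agent.Core.Fitting

/-!
A perfect group with trivial `2`-core acting on an elementary abelian `2`-group such that real
elements of odd order act without fixed points: every soluble normal subgroup is central.
-/

set_option autoImplicit false

namespace Cfsg.Agent.RealGraph

open Subgroup
open scoped Pointwise commutatorElement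

variable {H : Type*} [Group H] [Finite H]

theorem le_center_of_two_elements (hp : commutator H = ⊤) (X : Subgroup H)
    (h : ∀ g : H, ∀ k : ℕ, g ^ 2 ^ k = 1 → ∀ l ∈ X, Commute g l) : X ≤ center H := by
  have htop := eq_top_of_two_elements hp (centralizer (X : Set H))
    fun g k hk => fun l hl => (h g k hk l hl).eq.symm
  refine fun x hx => mem_center_iff.mpr fun g => ?_
  have hg : g ∈ centralizer (X : Set H) := htop ▸ mem_top g
  exact (mem_centralizer_iff.mp hg x hx).symm

omit [Finite H] in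
theorem exists_involutory {L : Subgroup H} : ∀ (k : ℕ) (g : H), g ^ 2 ^ k = 1 →
    (∃ l ∈ L, ¬ Commute g l) → ∃ (g' : H) (k' : ℕ), g' ^ 2 ^ k' = 1 ∧
      (∀ l ∈ L, Commute (g' * g') l) ∧ ∃ l ∈ L, ¬ Commute g' l := by
  intro k
  induction k with
  | zero =>
    intro g hg h
    obtain ⟨l, -, hl⟩ := h
    rw [pow_zero, pow_one] at hg
    exact absurd (hg ▸ Commute.one_left l) hl
  | succ k ih =>
    intro g hg h
    by_cases h2 : ∀ l ∈ L, Commute (g * g) l
    · exact ⟨g, k + 1, hg, h2, h⟩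
    · push Not at h2
      exact ih (g * g) (by rw [← pow_two, ← pow_mul, ← pow_succ', hg]) h2

omit [Finite H] in
theorem conj_inv_mul {g l : H} (h : Commute (g * g) l) :
    g * (l⁻¹ * (g * l * g⁻¹)) * g⁻¹ = (l⁻¹ * (g * l * g⁻¹))⁻¹ := by
  calc g * (l⁻¹ * (g * l * g⁻¹)) * g⁻¹ = g * l⁻¹ * g⁻¹ * (g * g * l * (g * g)⁻¹) := by group
    _ = g * l⁻¹ * g⁻¹ * l := by rw [h.eq, mul_inv_cancel_right]
    _ = (l⁻¹ * (g * l * g⁻¹))⁻¹ := by group

theorem le_center_of_no_real (hp : commutator H = ⊤) {L : Subgroup H} [hL : L.Normal]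
    (h : ∀ x ∈ L, x ≠ 1 → ¬ IsConj x x⁻¹) : L ≤ center H := by
  refine le_center_of_two_elements hp L fun g k hk l hl => ?_
  by_contra hne
  obtain ⟨g', k', -, hg2, l', hl', hne'⟩ := exists_involutory k g hk ⟨l, hl, hne⟩
  refine h (l'⁻¹ * (g' * l' * g'⁻¹)) (mul_mem (inv_mem hl') (hL.conj_mem l' hl' g')) ?_
    (isConj_iff.mpr ⟨g', conj_inv_mul (hg2 l' hl')⟩)
  intro h1
  rw [inv_mul_eq_one] at h1
  exact hne' (eq_mul_inv_iff_mul_eq.mp h1).symm

omit [Finite H] in
theorem center_odd (h2 : Cfsg.pCore 2 H = ⊥) [Finite (center H)] : Odd (Nat.card (center H)) := by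
  rw [Nat.odd_iff, ← Nat.two_dvd_ne_zero]
  intro hd
  have := Fact.mk Nat.prime_two
  obtain ⟨e, he⟩ := exists_prime_orderOf_dvd_card' 2 hd
  have he' : orderOf (e : H) = 2 := by rw [orderOf_coe, he]
  have hn : (zpowers (e : H)).Normal := by
    refine ⟨fun a ha g => ?_⟩
    have hac : a ∈ center H := zpowers_le.mpr e.2 ha
    rwa [mem_center_iff.mp hac g, mul_inv_cancel_right]
  have hp : IsPGroup 2 (zpowers (e : H)) :=
    IsPGroup.of_card (n := 1) (by rw [Nat.card_zpowers, he', pow_one])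
  have := Core.le_pCore hp (mem_zpowers (e : H))
  rw [h2, mem_bot] at this
  exact Invol.ne_one he' this

/-- A perfect group of automorphisms in which each element inverts at most one cyclic subgroup of
an abelian group of exponent `r` is trivial. -/
theorem eq_one_of_reflections {X : Type*} [CommGroup X] [Finite X] {r : ℕ} (hr : r.Prime)
    (hr2 : r ≠ 2) (hX : ∀ x : X, x ^ r = 1) {M : Subgroup (MulAut X)} (hp : commutator M = ⊤)
    (hrefl : ∀ u : M, ∀ a b : X, (u : MulAut X) a = a⁻¹ → (u : MulAut X) b = b⁻¹ → a ≠ 1 →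
      b ∈ zpowers a) : M = ⊥ := by
  classical
  have := Fact.mk Nat.prime_two
  have := Fact.mk hr
  have hodd : ∀ x : X, x⁻¹ = x → x = 1 := fun x hx =>
    eq_one_of_odd_of_inv_eq (odd_orderOf_of_dvd (hr.odd_of_ne_two hr2) (hX x)) hx
  by_contra hM
  have hns : ¬ Odd (Nat.card M) := fun h => by
    have := isSolvable_of_odd h
    exact hM (eq_bot_iff.mpr fun m hm => mem_bot.mpr
      (congrArg Subtype.val ((subsingleton_of_perfect hp).elim ⟨m, hm⟩ 1)))
  have hdvd : 2 ∣ Nat.card M := even_iff_two_dvd.mp (Nat.not_odd_iff_even.mp hns)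
  obtain ⟨S⟩ := (inferInstance : Nonempty (Sylow 2 M))
  have hS : (S : Subgroup M) ≠ ⊥ := S.ne_bot_of_dvd_card hdvd
  have : Nontrivial (S : Subgroup M) := (nontrivial_iff_ne_bot _).mpr hS
  have := S.2.isNilpotent
  obtain ⟨k, hk0, hk⟩ := ((S.2.to_subgroup (center (S : Subgroup M))).nontrivial_iff_card).mp
    ((nontrivial_iff_ne_bot _).mpr (Group.IsNilpotent.center_ne_bot (G := (S : Subgroup M))))
  obtain ⟨u, hu⟩ := exists_prime_orderOf_dvd_card' 2 (hk ▸ dvd_pow_self 2 hk0.ne')
  set u' : MulAut X := (((u : (S : Subgroup M)) : M) : MulAut X) with hu'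
  have hu2 : orderOf u' = 2 := by rw [hu', orderOf_coe, orderOf_coe, orderOf_coe, hu]
  have hus : ∀ s : (S : Subgroup M), ∀ x, ((s : M) : MulAut X) (u' x) = u' (((s : M) : MulAut X) x) :=
    fun s x => DFunLike.congr_fun
      (congrArg (fun t : (S : Subgroup M) => ((t : M) : MulAut X)) (mem_center_iff.mp u.2 s)) x
  have huu : ∀ x, u' (u' x) = x := fun x =>
    DFunLike.congr_fun (Invol.mul_self_eq_one hu2) x
  obtain ⟨a, ha⟩ : ∃ a : X, u' a ≠ a := by
    by_contra hcon
    push Not at hcon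
    exact Invol.ne_one hu2 (MulEquiv.ext hcon)
  set v := a⁻¹ * u' a with hv
  have huv : u' v = v⁻¹ := by rw [hv, map_mul, map_inv, huu, mul_inv_rev, inv_inv, mul_comm]
  have hv1 : v ≠ 1 := fun h => ha (inv_mul_eq_one.mp h).symm
  have hI : ∀ (s : (S : Subgroup M)), ∀ x ∈ zpowers v, ((s : M) : MulAut X) x ∈ zpowers v := by
    intro s x hx
    obtain ⟨i, rfl⟩ := mem_zpowers_iff.mp hx
    rw [map_zpow]
    refine zpow_mem (hrefl (u : (S : Subgroup M)) v _ huv ?_ hv1) i
    change u' _ = _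
    rw [← hus, huv, map_inv]
  let ρ : (S : Subgroup M) →* MulAut (zpowers v) :=
    MonoidHom.mk'
      (fun s =>
        { toFun := fun x => ⟨((s : M) : MulAut X) x, hI s x x.2⟩
          invFun := fun x => ⟨(((s⁻¹ : (S : Subgroup M)) : M) : MulAut X) x, hI s⁻¹ x x.2⟩
          left_inv := fun x => Subtype.ext (by simp)
          right_inv := fun x => Subtype.ext (by simp)
          map_mul' := fun x y => Subtype.ext (map_mul _ _ _) })
      fun s t => rfl
  have hρ : Function.Injective ρ := by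
    rw [← MonoidHom.ker_eq_bot_iff]
    by_contra hker
    obtain ⟨k1, hk1, hk'⟩ := ((S.2.to_subgroup ρ.ker).nontrivial_iff_card).mp
      ((nontrivial_iff_ne_bot _).mpr hker)
    obtain ⟨c, hc⟩ := exists_prime_orderOf_dvd_card' 2 (hk' ▸ dvd_pow_self 2 hk1.ne')
    set c' : MulAut X := (((c : (S : Subgroup M)) : M) : MulAut X) with hc'
    have hc2 : orderOf c' = 2 := by rw [hc', orderOf_coe, orderOf_coe, orderOf_coe, hc]
    have hcv : c' v = v :=
      (congrArg Subtype.val
        (DFunLike.congr_fun (MonoidHom.mem_ker.mp c.2) (⟨v, mem_zpowers v⟩ : zpowers v)) :)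
    have hcI : ∀ x ∈ zpowers v, c' x = x := by
      intro x hx
      obtain ⟨i, rfl⟩ := mem_zpowers_iff.mp hx
      rw [map_zpow, hcv]
    have hcc : ∀ x, c' (c' x) = x := fun x =>
      DFunLike.congr_fun (Invol.mul_self_eq_one hc2) x
    obtain ⟨d, hd⟩ : ∃ d : X, c' d ≠ d := by
      by_contra hcon
      push Not at hcon
      exact Invol.ne_one hc2 (MulEquiv.ext hcon)
    set b := d⁻¹ * c' d with hb
    have hcb : c' b = b⁻¹ := by rw [hb, map_mul, map_inv, hcc, mul_inv_rev, inv_inv, mul_comm]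
    have hb1 : b ≠ 1 := fun h => hd (inv_mul_eq_one.mp h).symm
    have hub : u' b = b := by
      set b' := b⁻¹ * u' b with hb'
      have hub' : u' b' = b'⁻¹ := by
        rw [hb', map_mul, map_inv, huu, mul_inv_rev, inv_inv, mul_comm]
      have hcb' : c' b' = b'⁻¹ := by
        rw [hb', map_mul, map_inv, hcb, inv_inv, hus (c : (S : Subgroup M)) b]
        change b * u' (c' b) = _
        rw [hcb, map_inv, mul_inv_rev, inv_inv, mul_comm]
      have hmem := hrefl (u : (S : Subgroup M)) v b' huv hub' hv1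
      exact (inv_mul_eq_one.mp (hodd b' (by rw [← hcb', hcI b' hmem]))).symm
    have h1 : ((((u : (S : Subgroup M)) * (c : (S : Subgroup M)) : (S : Subgroup M)) : M) :
        MulAut X) v = v⁻¹ := by
      change u' (c' v) = _
      rw [hcv, huv]
    have h2 : ((((u : (S : Subgroup M)) * (c : (S : Subgroup M)) : (S : Subgroup M)) : M) :
        MulAut X) b = b⁻¹ := by
      change u' (c' b) = _
      rw [hcb, map_inv, hub]
    have hmem := hrefl _ v b h1 h2 hv1
    exact hb1 (hodd b (by rw [← hcb]; exact hcI b hmem))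
  have hIc : Nat.card (zpowers v) = r := by
    rw [Nat.card_zpowers, orderOf_eq_prime (hX v) hv1]
  have : IsCyclic (ZMod (Nat.card (zpowers v)))ˣ := hIc ▸ ZMod.isCyclic_units_prime hr
  have : IsCyclic (MulAut (zpowers v)) :=
    isCyclic_of_surjective (IsCyclic.mulAutMulEquiv (zpowers v)).symm.toMonoidHom
      (IsCyclic.mulAutMulEquiv (zpowers v)).symm.surjective
  have hcyc : IsCyclic (S : Subgroup M) := isCyclic_of_injective ρ hρ
  have hmin : (Nat.card M).minFac = 2 := (Nat.minFac_eq_two_iff _).mpr hdvd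
  have hN := IsCyclic.normalizer_le_centralizer hmin hcyc
  have hcompl := MonoidHom.ker_transferSylow_isComplement' S hN
  have hker : (MonoidHom.transferSylow S hN).ker = ⊤ := by
    refine top_le_iff.mp (hp.ge.trans ?_)
    rw [_root_.commutator_def, commutator_le]
    intro a _ b _
    rw [MonoidHom.mem_ker, map_commutatorElement, commutatorElement_eq_one_iff_mul_comm]
    have : IsMulCommutative (S : Subgroup M) := hcyc.isMulCommutative
    exact IsMulCommutative.is_comm.comm _ _
  rw [hker, isComplement'_top_left] at hcompl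
  exact hS hcompl

variable {V : Type*} [CommGroup V]

/-- Real elements of odd order act without fixed points. -/
def RealFPF (ψ : H →* MulAut V) : Prop :=
  ∀ q : H, q ≠ 1 → Odd (orderOf q) → IsConj q q⁻¹ → FPF (ψ q)

section Faithful

variable [Nontrivial V] (hV : ∀ v : V, v * v = 1) {ψ : H →* MulAut V} (hfpf : RealFPF ψ)

include hV hfpf in
theorem mem_zpowers_of_inverted {r : ℕ} (hr : r.Prime) (hr2 : r ≠ 2) {g a b : H} (ha : a ^ r = 1)
    (hb : b ^ r = 1) (hab : Commute a b) (hga : g * a * g⁻¹ = a⁻¹) (hgb : g * b * g⁻¹ = b⁻¹)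
    (ha1 : a ≠ 1) : b ∈ zpowers a := by
  by_contra hnb
  refine no_fpf_pair hV hr hr2 (α := ψ a) (β := ψ b) (by rw [← map_pow, ha, map_one])
    (by rw [← map_pow, hb, map_one]) (hab.map ψ) (fun k => ?_)
    (hfpf a ha1 (odd_orderOf_of_dvd (hr.odd_of_ne_two hr2) ha) (isConj_iff.mpr ⟨g, hga⟩))
  have hk : a ^ k * b ≠ 1 := fun h => hnb (by
    rw [← inv_inv b, ← eq_inv_of_mul_eq_one_left h]
    exact inv_mem (pow_mem (mem_zpowers a) k))
  have := hfpf (a ^ k * b) hk (odd_orderOf_of_dvd (hr.odd_of_ne_two hr2) (by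
      rw [(hab.pow_left k).mul_pow, ← pow_mul, mul_comm, pow_mul, ha, one_pow, hb, one_mul]))
    (isConj_iff.mpr ⟨g, by
      rw [← conj_mul, inv_pow_eq hga, hgb, mul_inv_rev, (hab.pow_left k).inv_inv.eq]⟩)
  rwa [map_mul, map_pow] at this

include hfpf in
omit [Nontrivial V] [Finite H] in
theorem map_commutator_eq_one {r : ℕ} (hr : r.Prime) (hr2 : r ≠ 2)
    (hV : ∀ v : V, v * v = 1) {a c g : H}
    (ha : a ^ r = 1) (ha1 : a ≠ 1) (hga : g * a * g⁻¹ = a⁻¹) (hza : Commute ⁅a, c⁆ a)
    (hzc : Commute ⁅a, c⁆ c) : ψ ⁅a, c⁆ = 1 := by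
  set z := ⁅a, c⁆ with hz
  have h1 : c * a * c⁻¹ = z⁻¹ * a := by rw [hz, commutatorElement_def]; group
  have hk : ∀ k : ℕ, c ^ k * a * (c ^ k)⁻¹ = z⁻¹ ^ k * a := by
    intro k
    induction k with
    | zero => simp
    | succ k ih =>
      calc c ^ (k + 1) * a * (c ^ (k + 1))⁻¹ = c * (c ^ k * a * (c ^ k)⁻¹) * c⁻¹ := by
            rw [pow_succ' c k]; group
        _ = c * z⁻¹ ^ k * c⁻¹ * (c * a * c⁻¹) := by rw [ih]; group
        _ = z⁻¹ ^ (k + 1) * a := by
            rw [((hzc.inv_left.pow_left k).symm).eq, mul_inv_cancel_right, h1, pow_succ, mul_assoc]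
  have hzr : z⁻¹ ^ r = 1 := by
    have : (c * a * c⁻¹) ^ r = 1 := by rw [conj_pow, ha, mul_one, mul_inv_cancel]
    rwa [h1, hza.inv_left.mul_pow, ha, mul_one] at this
  have := eq_one_of_fpf hV hr hr2 (α := ψ z⁻¹) (β := ψ a) (by rw [← map_pow, hzr, map_one])
    (by rw [← map_pow, ha, map_one]) (hza.inv_left.map ψ) fun k => by
      rw [← map_pow, ← map_mul, ← hk]
      refine hfpf _ (fun h => ha1 (conj_eq_one_iff.mp h))
        (odd_orderOf_of_dvd (hr.odd_of_ne_two hr2) (by rw [conj_pow, ha, mul_one, mul_inv_cancel]))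
        (isConj_iff.mpr ⟨c ^ k * g * (c ^ k)⁻¹, ?_⟩)
      calc _ = c ^ k * (g * a * g⁻¹) * (c ^ k)⁻¹ := by group
        _ = (c ^ k * a * (c ^ k)⁻¹)⁻¹ := by rw [hga, conj_inv]
  rwa [map_inv, inv_eq_one] at this

variable (hp : commutator H = ⊤)

include hV hfpf hp in
theorem omega_center_le {r : ℕ} (hr : r.Prime) (hr2 : r ≠ 2) {L : Subgroup H} [hL : L.Normal] :
    ∀ x ∈ L, (∀ l ∈ L, Commute x l) → x ^ r = 1 → x ∈ center H := by
  let X : Subgroup H :=
    { carrier := {x | x ∈ L ∧ (∀ l ∈ L, Commute x l) ∧ x ^ r = 1}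
      one_mem' := ⟨one_mem L, fun l _ => Commute.one_left l, one_pow r⟩
      mul_mem' := fun {a b} ha hb => ⟨mul_mem ha.1 hb.1,
        fun l hl => (ha.2.1 l hl).mul_left (hb.2.1 l hl),
        by rw [(ha.2.1 b hb.1).mul_pow, ha.2.2, hb.2.2, one_mul]⟩
      inv_mem' := fun {a} ha => ⟨inv_mem ha.1, fun l hl => (ha.2.1 l hl).inv_left,
        by rw [inv_pow, ha.2.2, inv_one]⟩ }
  have hXn : X.Normal := by
    refine ⟨fun a ha g => ⟨hL.conj_mem a ha.1 g, fun l hl => ?_,
      by rw [conj_pow, ha.2.2, mul_one, mul_inv_cancel]⟩⟩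
    have hl' : g⁻¹ * l * g ∈ L := by simpa using hL.conj_mem l hl g⁻¹
    simpa [mul_assoc] using (ha.2.1 _ hl').map (MulAut.conj g).toMonoidHom
  let _ : CommGroup X :=
    { (inferInstance : Group X) with
      mul_comm := fun a b => Subtype.ext (a.2.2.1 b b.2.1).eq }
  let φ : H →* MulAut X := MulAut.conjNormal
  have hM := eq_one_of_reflections hr hr2 (fun x : X => Subtype.ext x.2.2.2)
    (perfect_of_surjective hp φ.rangeRestrict_surjective) (fun u a b ha hb ha1 => by
      obtain ⟨g, hg⟩ := u.2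
      have hga : g * (a : H) * g⁻¹ = (a : H)⁻¹ := by
        rw [← hg] at ha
        exact congrArg Subtype.val ha
      have hgb : g * (b : H) * g⁻¹ = (b : H)⁻¹ := by
        rw [← hg] at hb
        exact congrArg Subtype.val hb
      obtain ⟨i, hi⟩ := mem_zpowers_iff.mp
        (mem_zpowers_of_inverted hV hfpf hr hr2 a.2.2.2 b.2.2.2 (a.2.2.1 b b.2.1) hga hgb
          fun h => ha1 (Subtype.ext h))
      exact mem_zpowers_iff.mpr ⟨i, Subtype.ext (by rw [SubgroupClass.coe_zpow]; exact hi)⟩)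
  intro x hx hxc hxr
  refine mem_center_iff.mpr fun g => ?_
  have hg : φ g = 1 := mem_bot.mp (hM ▸ (⟨g, rfl⟩ : φ g ∈ φ.range))
  have h : g * x * g⁻¹ = x :=
    congrArg Subtype.val (DFunLike.congr_fun hg (⟨x, hx, hxc, hxr⟩ : X))
  exact mul_inv_eq_iff_eq_mul.mp h

include hV hfpf hp in
theorem le_center_of_faithful {r : ℕ} (hr : r.Prime) (hr2 : r ≠ 2) {L : Subgroup H}
    [hL : L.Normal] (hLr : IsPGroup r L) (hinj : ∀ l ∈ L, ψ l = 1 → l = 1) : L ≤ center H := by
  have := Fact.mk hr
  refine le_center_of_two_elements hp L fun g₀ k₀ hk₀ => ?_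
  by_contra hne
  push Not at hne
  obtain ⟨g, k, -, hg2, l, hl, hgl⟩ := exists_involutory k₀ g₀ hk₀ hne
  let Z : ℕ → Subgroup H := fun j => (Subgroup.upperCentralSeries L j).map L.subtype
  have hZn : ∀ j, (Z j).Normal := fun j => inferInstance
  have hZL : ∀ j, Z j ≤ L := fun j => map_subtype_le _
  have hZs : ∀ j, ∀ x ∈ Z (j + 1), ∀ c ∈ L, ⁅x, c⁆ ∈ Z j := by
    rintro j x ⟨a, ha, rfl⟩ c hc
    exact ⟨⁅a, ⟨c, hc⟩⁆, Subgroup.mem_upperCentralSeries_succ_iff.mp ha _,
      map_commutatorElement L.subtype _ _⟩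
  have hodd : ∀ x ∈ L, Odd (orderOf x) := by
    intro x hx
    obtain ⟨i, hi⟩ := hLr ⟨x, hx⟩
    exact odd_orderOf_of_dvd ((hr.odd_of_ne_two hr2).pow (n := i)) (congrArg Subtype.val hi)
  have hfix : ∀ j, (∀ a ∈ Z j, a ^ r = 1 → g * a * g⁻¹ = a⁻¹ → a = 1) →
      ∀ w ∈ Z j, g * w * g⁻¹ = w := by
    intro j hj w hw
    set v := w⁻¹ * (g * w * g⁻¹) with hv
    have hvZ : v ∈ Z j := mul_mem (inv_mem hw) ((hZn j).conj_mem w hw g)
    have hgv : g * v * g⁻¹ = v⁻¹ := conj_inv_mul (hg2 w (hZL j hw))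
    by_contra hne
    obtain ⟨e, he⟩ := IsPGroup.iff_orderOf.mp hLr (⟨v, hZL j hvZ⟩ : L)
    rw [Subgroup.orderOf_mk] at he
    rcases e with _ | e
    · rw [pow_zero, orderOf_eq_one_iff, hv, inv_mul_eq_one] at he
      exact hne he.symm
    · have hvr : (v ^ r ^ e) ^ r = 1 := by rw [← pow_mul, ← pow_succ, ← he, pow_orderOf_eq_one]
      have h1 := hj _ (pow_mem hvZ _) hvr (inv_pow_eq hgv _)
      have h2 := orderOf_dvd_of_pow_eq_one h1
      rw [he, Nat.pow_dvd_pow_iff_le_right hr.one_lt] at h2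
      omega
  have hmain : ∀ j, ∀ a ∈ Z j, a ^ r = 1 → g * a * g⁻¹ = a⁻¹ → a = 1 := by
    intro j
    induction j with
    | zero =>
      intro a ha _ _
      obtain ⟨b, hb, rfl⟩ := ha
      rw [SetLike.mem_coe, Subgroup.upperCentralSeries_zero, mem_bot] at hb
      rw [hb, map_one]
    | succ j ih =>
      intro a ha har hga
      by_contra ha1
      have hfixj := hfix j ih
      -- `a` centralises `Z j`
      have hac : ∀ w ∈ Z j, Commute a w := by
        intro w hw
        obtain ⟨i, hi⟩ := hr.odd_of_ne_two hr2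
        set b := a ^ (i + 1) with hb
        have hb2 : b * b = a := by
          rw [hb, ← pow_add, show i + 1 + (i + 1) = r + 1 by omega, pow_succ, har, one_mul]
        have h := hfixj _ (hZs j b (pow_mem ha _) w (hZL j hw))
        rw [commutatorElement_def, ← conj_mul, ← conj_mul, ← conj_mul, ← conj_inv, ← conj_inv,
          inv_pow_eq hga, hfixj w hw, inv_inv] at h
        have h' : b⁻¹ * w * b = b * w * b⁻¹ := mul_right_cancel h
        rw [← hb2]
        show b * b * w = w * (b * b)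
        calc b * b * w = b * (b * w * b⁻¹) * b := by group
          _ = b * (b⁻¹ * w * b) * b := by rw [h']
          _ = w * (b * b) := by group
      have hfixed : ∀ c ∈ L, g * c * g⁻¹ = c → Commute a c := by
        intro c hc hgc
        set z := ⁅a, c⁆ with hz
        have hzZ := hZs j a ha c hc
        have h := hfixj _ hzZ
        rw [← hz, hz, commutatorElement_def, ← conj_mul, ← conj_mul, ← conj_mul, ← conj_inv,
          ← conj_inv, hga, hgc, inv_inv] at h
        have hza : Commute a z := hac z hzZ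
        have h2 : z⁻¹ = z := by
          calc z⁻¹ = a * z⁻¹ * a⁻¹ := by rw [hza.inv_right.eq, mul_inv_cancel_right]
            _ = a * (a⁻¹ * z⁻¹ * a) * a⁻¹ := by
                rw [hza.inv_right.inv_left.eq, inv_mul_cancel_right]
            _ = z := by
                have e : a⁻¹ * z⁻¹ * a = z := by
                  calc a⁻¹ * z⁻¹ * a = a⁻¹ * c * a * c⁻¹ := by
                        rw [hz, commutatorElement_def]; group
                    _ = z := by rw [hz, commutatorElement_def]; exact h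
                rw [e, hza.eq, mul_inv_cancel_right]
        have h3 := eq_one_of_odd_of_inv_eq (hodd z (hZL j hzZ)) h2
        exact commutatorElement_eq_one_iff_commute.mp h3
      have hinvd : ∀ c ∈ L, g * c * g⁻¹ = c⁻¹ → Commute a c := by
        intro c hc hgc
        set z := ⁅a, c⁆ with hz
        have hzZ := hZs j a ha c hc
        have h := hfixj _ hzZ
        rw [← hz, hz, commutatorElement_def, ← conj_mul, ← conj_mul, ← conj_mul, ← conj_inv,
          ← conj_inv, hga, hgc, inv_inv, inv_inv] at h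
        have hza : Commute z a := (hac z hzZ).symm
        have hzc : Commute z c := by
          have e : (c * a)⁻¹ * z * (c * a) = z := by
            calc (c * a)⁻¹ * z * (c * a) = a⁻¹ * c⁻¹ * a * c := by
                  rw [hz, commutatorElement_def]; group
              _ = z := by rw [hz, commutatorElement_def]; exact h
          show z * c = c * z
          calc z * c = c * a * ((c * a)⁻¹ * z * (c * a)) * a⁻¹ := by group
            _ = c * (a * z * a⁻¹) := by rw [e]; group
            _ = c * z := by rw [hza.symm.eq, mul_inv_cancel_right]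
        exact commutatorElement_eq_one_iff_commute.mp (hinj _ (hZL j hzZ)
          (map_commutator_eq_one hfpf hr hr2 hV har ha1 hga hza hzc))
      have hcentral : ∀ c ∈ L, Commute a c := by
        intro c hc
        set v := c⁻¹ * (g * c * g⁻¹) with hv
        have hvL : v ∈ L := mul_mem (inv_mem hc) (hL.conj_mem c hc g)
        have hgv : g * v * g⁻¹ = v⁻¹ := conj_inv_mul (hg2 c hc)
        obtain ⟨i, hi⟩ := hodd v hvL
        set u := v ^ (i + 1) with hu
        have hu2 : u * u = v := by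
          rw [hu, ← pow_add, show i + 1 + (i + 1) = orderOf v + 1 by omega, pow_succ,
            pow_orderOf_eq_one, one_mul]
        have hgu : g * u * g⁻¹ = u⁻¹ := inv_pow_eq hgv _
        have hcu : g * (c * u) * g⁻¹ = c * u := by
          rw [← conj_mul, hgu, show g * c * g⁻¹ = c * v by rw [hv, mul_inv_cancel_left], ← hu2,
            ← mul_assoc, mul_inv_cancel_right]
        have h1 := hfixed (c * u) (mul_mem hc (pow_mem hvL _)) hcu
        have h2 := hinvd u (pow_mem hvL _) hgu
        have := h1.mul_right h2.inv_right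
        rwa [mul_inv_cancel_right] at this
      have hc := omega_center_le hV hfpf hp hr hr2 a (hZL _ ha) hcentral har
      have hga' : a⁻¹ = a := by
        rw [← hga, mem_center_iff.mp hc g, mul_inv_cancel_right]
      exact ha1 (eq_one_of_odd_of_inv_eq (hodd a (hZL _ ha)) hga')
  have : Group.IsNilpotent L := hLr.isNilpotent
  obtain ⟨n, hn⟩ := Group.IsNilpotent.nilpotent (G := L)
  refine hgl ?_
  have h := hfix n (hmain n) l ⟨⟨l, hl⟩, by rw [hn]; trivial, rfl⟩
  exact mul_inv_eq_iff_eq_mul.mp h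

include hV hfpf hp in
theorem pCore_le_center {r : ℕ} (hr : r.Prime) (hr2 : r ≠ 2) :
    Cfsg.pCore r H ≤ center H := by
  have := Fact.mk hr
  set L := Cfsg.pCore r H with hL
  have hLo : ∀ x ∈ L, Odd (orderOf x) := by
    intro x hx
    obtain ⟨i, hi⟩ := (Core.pCore_isPGroup (p := r) (G := H)) ⟨x, hx⟩
    exact odd_orderOf_of_dvd ((hr.odd_of_ne_two hr2).pow (n := i)) (congrArg Subtype.val hi)
  set L₁ : Subgroup H := L ⊓ ψ.ker with hL₁
  have hL₁n : L₁.Normal := normal_inf_normal _ _
  have hL₁c : L₁ ≤ center H := le_center_of_no_real hp fun x hx hx1 hxr => by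
    obtain ⟨v, hv⟩ := exists_ne (1 : V)
    exact hv (hfpf x hx1 (hLo x hx.1) hxr v (by rw [MonoidHom.mem_ker.mp hx.2]; rfl))
  have hL₁o : Odd (Nat.card L₁) := by
    obtain ⟨e, he⟩ := IsPGroup.iff_card.mp
      ((Core.pCore_isPGroup (p := r) (G := H)).to_le (inf_le_left : L₁ ≤ L))
    rw [he]
    exact (hr.odd_of_ne_two hr2).pow
  set π := QuotientGroup.mk' L₁
  set ψ' : (H ⧸ L₁) →* MulAut V := QuotientGroup.lift L₁ ψ inf_le_right
  have hfpf' : RealFPF ψ' := by
    intro q hq1 hqo hq
    obtain ⟨z, rfl, hz⟩ := exists_lift_real hL₁o hq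
    exact hfpf z (fun h => hq1 (by rw [h]; rfl)) (odd_orderOf_lift hL₁o hqo) hz
  have : (L.map π).Normal := (inferInstance : L.Normal).map π (QuotientGroup.mk'_surjective _)
  have hle := le_center_of_faithful hV hfpf' (perfect_of_surjective hp (QuotientGroup.mk'_surjective _))
    hr hr2 (L := L.map π) ((Core.pCore_isPGroup (p := r) (G := H)).map π) (by
      rintro _ ⟨l, hl, rfl⟩ h1
      exact (QuotientGroup.eq_one_iff l).mpr ⟨hl, h1⟩)
  intro l hl
  have hcomm : ∀ h : H, ⁅h, l⁆ ∈ center H := fun h => hL₁c ((QuotientGroup.eq_one_iff _).mp (by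
    change π ⁅h, l⁆ = 1
    rw [map_commutatorElement, commutatorElement_eq_one_iff_mul_comm]
    exact mem_center_iff.mp (hle (mem_map_of_mem π hl)) (π h)))
  let θ : H →* center H :=
    MonoidHom.mk' (fun h => ⟨⁅h, l⁆, hcomm h⟩) fun a b => Subtype.ext (by
      change ⁅a * b, l⁆ = ⁅a, l⁆ * ⁅b, l⁆
      calc ⁅a * b, l⁆ = a * ⁅b, l⁆ * a⁻¹ * ⁅a, l⁆ := by
            simp only [commutatorElement_def]; group
        _ = ⁅b, l⁆ * ⁅a, l⁆ := by
            rw [mem_center_iff.mp (hcomm b) a, mul_inv_cancel_right]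
        _ = ⁅a, l⁆ * ⁅b, l⁆ := (mem_center_iff.mp (hcomm b) _).symm)
  refine mem_center_iff.mpr fun h => ?_
  have hθ : h ∈ θ.ker := by
    have hle' : commutator H ≤ θ.ker := by
      rw [_root_.commutator_def, commutator_le]
      intro a _ b _
      rw [MonoidHom.mem_ker, map_commutatorElement, commutatorElement_eq_one_iff_mul_comm]
      exact IsMulCommutative.is_comm.comm _ _
    exact hle' (hp ▸ mem_top h)
  exact commutatorElement_eq_one_iff_mul_comm.mp (congrArg Subtype.val (MonoidHom.mem_ker.mp hθ))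

include hV hfpf hp in
theorem le_center_of_isSolvable (h2 : Cfsg.pCore 2 H = ⊥) {N : Subgroup H} [N.Normal]
    (hN : Group.IsSolvable N) : N ≤ center H := by
  have hF : Cfsg.fittingSubgroup H ≤ center H := by
    rw [Core.fittingSubgroup_eq_iSup_pCore]
    refine iSup_le fun p => ?_
    by_cases hp2 : (p : ℕ) = 2
    · rw [hp2, h2]; exact bot_le
    · exact pCore_le_center hV hfpf hp p.2 hp2
  have hFN : ∀ a ∈ Cfsg.fittingSubgroup N, (a : H) ∈ center H := fun a ha => by
    have h := mem_map_of_mem N.subtype ha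
    rw [Core.map_fittingSubgroup_normal] at h
    exact hF h.1
  intro x hx
  refine hFN ⟨x, hx⟩ (Core.centralizer_fittingSubgroup_le fun a ha => Subtype.ext ?_)
  exact (mem_center_iff.mp (hFN a ha) x).symm

include hV hfpf hp in
/-- The main reduction. -/
theorem isSolvable_of_fpf (h2 : Cfsg.pCore 2 H = ⊥) (htr : SylTrans H) :
    Group.IsSolvable H := by
  have hZ : Odd (Nat.card (center H)) := center_odd h2
  set π := QuotientGroup.mk' (center H)
  have hlift : ∀ q : H ⧸ center H, IsConj q q⁻¹ → q ≠ 1 → Odd (orderOf q) →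
      ∃ x : H, π x = q ∧ IsConj x x⁻¹ ∧ Odd (orderOf x) := by
    intro q hq _ hqo
    obtain ⟨z, rfl, hz⟩ := exists_lift_real hZ hq
    exact ⟨z, rfl, hz, odd_orderOf_lift hZ hqo⟩
  have hrad : ∀ N : Subgroup (H ⧸ center H), N.Normal → Group.IsSolvable N → N = ⊥ := by
    intro N hN hNs
    let f : N.comap π →* N := π.subgroupComap N
    have hker : f.ker ≤ ((center H).subgroupOf (N.comap π)).subtype.range := by
      rw [range_subtype]
      intro a ha
      exact (QuotientGroup.eq_one_iff (a : H)).mp (congrArg Subtype.val (MonoidHom.mem_ker.mp ha))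
    have hcs : Group.IsSolvable ((center H).subgroupOf (N.comap π)) :=
      Group.isSolvable_of_comm fun a b =>
        Subtype.ext (Subtype.ext (mem_center_iff.mp b.2 (a : N.comap π)))
    have hsol : Group.IsSolvable (N.comap π) := Group.isSolvable_of_ker_le_range
      ((center H).subgroupOf (N.comap π)).subtype f hker
    have hle := le_center_of_isSolvable hV hfpf hp h2 hsol
    refine (eq_bot_iff_forall _).mpr fun q hq => ?_
    obtain ⟨x, rfl⟩ := QuotientGroup.mk'_surjective (center H) q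
    exact (QuotientGroup.eq_one_iff x).mpr (hle hq)
  have hrank : ∀ r : ℕ, r.Prime → r ≠ 2 → ∀ x y g : H ⧸ center H, orderOf x = r →
      orderOf y = r → Commute x y → g * x * g⁻¹ = x⁻¹ → g * y * g⁻¹ = y⁻¹ → y ∈ zpowers x := by
    intro r hr hr2 qx qy qg hox hoy hcq hgx hgy
    by_contra hnm
    obtain ⟨g₀, rfl⟩ := QuotientGroup.mk_surjective qg
    obtain ⟨m, k, hm, hgm, -⟩ := exists_odd_pow g₀
    obtain ⟨x, rfl, hxg⟩ := exists_lift_inverted hZ hgm (q := qx)
      (by rw [QuotientGroup.mk_pow]; exact conj_odd_pow hgx hm)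
    obtain ⟨y, rfl, hyg⟩ := exists_lift_inverted hZ hgm (q := qy)
      (by rw [QuotientGroup.mk_pow]; exact conj_odd_pow hgy hm)
    set g := g₀ ^ m
    have hro := hr.odd_of_ne_two hr2
    have hr1 : ∀ x : H, g * x * g⁻¹ = x⁻¹ → orderOf (x : H ⧸ center H) = r → x ^ r = 1 := by
      intro x hxg hox
      have hmem : x ^ r ∈ center H := by
        rw [← QuotientGroup.eq_one_iff, QuotientGroup.mk_pow, ← hox, pow_orderOf_eq_one]
      refine eq_one_of_odd_of_inv_eq (odd_orderOf_of_mem hZ hmem) ?_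
      rw [← inv_pow_eq hxg, mem_center_iff.mp hmem g, mul_inv_cancel_right]
    have hxr := hr1 x hxg hox
    have hyr := hr1 y hyg hoy
    have hx1 : x ≠ 1 := fun h => by
      rw [h, QuotientGroup.mk_one, orderOf_one] at hox
      exact hr.ne_one hox.symm
    set z := ⁅x, y⁆ with hz
    have hzc : z ∈ center H := (QuotientGroup.eq_one_iff _).mp (by
      change π ⁅x, y⁆ = 1
      rw [map_commutatorElement, commutatorElement_eq_one_iff_mul_comm]
      exact hcq.eq)
    have hψz : ψ z = 1 := map_commutator_eq_one hfpf hr hr2 hV hxr hx1 hxg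
      (mem_center_iff.mp hzc x).symm (mem_center_iff.mp hzc y).symm
    have hcψ : Commute (ψ x) (ψ y) := by
      rw [hz, map_commutatorElement] at hψz
      exact commutatorElement_eq_one_iff_commute.mp hψz
    refine no_fpf_pair hV hr hr2 (α := ψ x) (β := ψ y ^ 2) (by rw [← map_pow, hxr, map_one])
      (by rw [← pow_mul, mul_comm, pow_mul, ← map_pow, hyr, map_one, one_pow])
      (hcψ.pow_right 2) (fun i => ?_)
      (hfpf x hx1 (odd_orderOf_of_dvd hro hxr) (isConj_iff.mpr ⟨g, hxg⟩))
    set w := y * x ^ i * y with hw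
    have hψw : ψ x ^ i * ψ y ^ 2 = ψ w := by
      rw [hw, map_mul, map_mul, map_pow, ← ((hcψ.pow_left i)).eq, pow_two, mul_assoc]
    rw [hψw]
    have hwq : (w : H ⧸ center H) = (x : H ⧸ center H) ^ i * (y : H ⧸ center H) ^ 2 := by
      rw [hw, QuotientGroup.mk_mul, QuotientGroup.mk_mul, QuotientGroup.mk_pow,
        ← (hcq.pow_left i).eq, pow_two, mul_assoc]
    refine hfpf w (fun h => hnm ?_) (odd_orderOf_lift hZ ?_) (isConj_iff.mpr ⟨g, ?_⟩)
    · rw [h, QuotientGroup.mk_one] at hwq
      obtain ⟨j, hj⟩ := hro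
      have h2 : (y : H ⧸ center H) ^ 2 ∈ zpowers (x : H ⧸ center H) := by
        rw [eq_inv_of_mul_eq_one_right hwq.symm]
        exact inv_mem (pow_mem (mem_zpowers _) i)
      have h3 := pow_mem h2 (j + 1)
      rwa [← pow_mul, show 2 * (j + 1) = r + 1 by omega, pow_succ, ← hoy, pow_orderOf_eq_one,
        one_mul] at h3
    · refine odd_orderOf_of_dvd hro ?_
      rw [hwq, ((hcq.pow_left i).pow_right 2).mul_pow, ← pow_mul, ← pow_mul, mul_comm i,
        mul_comm 2, pow_mul, pow_mul]
      nth_rewrite 1 [← hox]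
      rw [pow_orderOf_eq_one, ← hoy, pow_orderOf_eq_one, one_pow, one_pow, one_mul]
    · rw [hw, ← conj_mul, ← conj_mul, inv_pow_eq hxg, hyg]
      simp [mul_assoc]
  have hQ : Group.IsSolvable (H ⧸ center H) :=
    TopHyp.isSolvable ⟨hrad, sylTrans_of_surjective htr (QuotientGroup.mk'_surjective _) hlift,
      hrank⟩
  exact isSolvable_of_quotient
    (Group.isSolvable_of_comm fun a b => Subtype.ext (mem_center_iff.mp b.2 a)) hQ

end Faithful

end Cfsg.Agent.RealGraph
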