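import Cfsg.Agent.RealGraph.Omega

/-!
A central involution of a Sylow `2`-subgroup is central in every Sylow `2`-subgroup containing
it.
-/

set_option autoImplicit false

namespace Cfsg.Agent.RealGraph

open Subgroup
open scoped Pointwise

variable {G : Type*} [Group G] [Finite G]

namespace TopHyp

variable (hG : TopHyp G)
include hG

theorem exists_inverted {S : Sylow 2 G} {v : G} (hv : v ∈ omega S) (hv1 : v ≠ 1) :
    ∃ y : G, y ≠ 1 ∧ Odd (orderOf y) ∧ v * y * v⁻¹ = y⁻¹ := by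
  have := Fact.mk Nat.prime_two
  obtain ⟨g, h, h1, h2, h3, -⟩ := Invol.exists_inverted_odd (orderOf_omega hv hv1)
    fun N hN hNp hmem => by
      have := (Core.le_pCore hNp).trans hG.pCore_eq_bot.le hmem
      exact hv1 (mem_bot.mp this)
  exact ⟨h, h1, h2, h3⟩

/-- Commuting inverted elements of odd prime power order generate a cyclic group. -/
theorem mem_zpowers_of_le {r : ℕ} (hr : r.Prime) (hr2 : r ≠ 2) :
    ∀ (i j : ℕ) (a b v : G), orderOf a = r ^ i → orderOf b = r ^ j → i ≤ j → Commute a b →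
      v * a * v⁻¹ = a⁻¹ → v * b * v⁻¹ = b⁻¹ → a ∈ zpowers b := by
  intro i
  induction i with
  | zero =>
    intro j a b v ha _ _ _ _ _
    rw [pow_zero, orderOf_eq_one_iff] at ha
    rw [ha]
    exact one_mem _
  | succ i ih =>
    intro j a b v ha hb hij hc hva hvb
    have har : orderOf (a ^ r) = r ^ i := by
      rw [orderOf_pow_of_dvd hr.ne_zero (ha ▸ dvd_pow_self r (Nat.succ_ne_zero i)), ha, pow_succ,
        Nat.mul_div_cancel _ hr.pos]
    obtain ⟨n, hn⟩ := (isOfFinOrder_of_finite b).mem_powers_iff_mem_zpowers.mpr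
      (ih j (a ^ r) b v har hb (by omega) (hc.pow_left r) (inv_pow_eq hva r) hvb)
    replace hn : b ^ n = a ^ r := hn
    have hrn : r ∣ n := by
      by_contra h
      have h1 : orderOf (b ^ n) = r ^ j := by
        rw [Nat.Coprime.orderOf_pow (hb ▸ ((hr.coprime_iff_not_dvd.mpr h).pow_left j)), hb]
      rw [hn, har] at h1
      have := Nat.pow_right_injective hr.two_le h1
      omega
    obtain ⟨n', rfl⟩ := hrn
    set a' := a * (b ^ n')⁻¹ with ha'
    have hca : Commute a (b ^ n')⁻¹ := (hc.pow_right n').inv_right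
    have ha'r : a' ^ r = 1 := by
      rw [ha', hca.mul_pow, inv_pow, ← pow_mul, mul_comm, hn, mul_inv_cancel]
    by_cases h1 : a' = 1
    · rw [ha', mul_inv_eq_one] at h1
      rw [h1]
      exact pow_mem (mem_zpowers b) n'
    · have := Fact.mk hr
      have ho : orderOf a' = r := orderOf_eq_prime ha'r h1
      have hva' : v * a' * v⁻¹ = a'⁻¹ := by
        rw [ha', ← conj_mul, hva, ← conj_inv, inv_pow_eq hvb, inv_inv, mul_inv_rev, inv_inv]
        exact (hc.pow_right n').inv_left.eq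
      obtain ⟨j', rfl⟩ : ∃ j', j = j' + 1 := ⟨j - 1, by omega⟩
      have ho0 : orderOf (b ^ r ^ j') = r := by
        rw [orderOf_pow_of_dvd (pow_ne_zero _ hr.ne_zero) (hb ▸ ⟨r, pow_succ r j'⟩), hb,
          pow_succ', Nat.mul_div_cancel _ (pow_pos hr.pos _)]
      have hc' : Commute (b ^ r ^ j') a' :=
        ((hc.symm.pow_left _).mul_right (((Commute.refl b).pow_pow _ n').inv_right))
      have hmem := hG.rank r hr hr2 _ a' v ho0 ho hc' (inv_pow_eq hvb _) hva'
      have ha'b : a' ∈ zpowers b := zpowers_le.mpr (pow_mem (mem_zpowers b) _) hmem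
      have := mul_mem ha'b (pow_mem (mem_zpowers b) n')
      rwa [ha', inv_mul_cancel_right] at this

theorem mem_zpowers_or {r : ℕ} (hr : r.Prime) (hr2 : r ≠ 2) {i j : ℕ} {a b v : G}
    (ha : orderOf a = r ^ i) (hb : orderOf b = r ^ j) (hc : Commute a b)
    (hva : v * a * v⁻¹ = a⁻¹) (hvb : v * b * v⁻¹ = b⁻¹) : a ∈ zpowers b ∨ b ∈ zpowers a := by
  rcases le_total i j with h | h
  · exact Or.inl (hG.mem_zpowers_of_le hr hr2 i j a b v ha hb h hc hva hvb)
  · exact Or.inr (hG.mem_zpowers_of_le hr hr2 j i b a v hb ha h hc.symm hvb hva)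

theorem primePow_central {y v : G} (hy : y ≠ 1) (hyo : Odd (orderOf y))
    (hvy : v * y * v⁻¹ = y⁻¹)
    (hmin : ∀ z : G, z ≠ 1 → Odd (orderOf z) → v * z * v⁻¹ = z⁻¹ →
      Nat.card (centralizer ({y} : Set G)) ≤ Nat.card (centralizer ({z} : Set G)))
    {r e : ℕ} (hr : r.Prime) (hr2 : r ≠ 2) {x : G} (hx : orderOf x = r ^ e) (hxy : Commute x y)
    (hvx : v * x * v⁻¹ = x⁻¹) : ∀ w ∈ centralizer ({y} : Set G), Commute x w := by
  obtain ⟨f, n, hn, hyd⟩ := Nat.exists_eq_pow_mul_and_not_dvd (orderOf_pos y).ne' r hr.ne_one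
  set yr := y ^ n with hyr
  have hn0 : n ≠ 0 := fun h => hn (h ▸ dvd_zero r)
  have hyro : orderOf yr = r ^ f := by
    rw [hyr, orderOf_pow_of_dvd hn0 ⟨r ^ f, by rw [hyd, mul_comm]⟩, hyd,
      Nat.mul_div_cancel _ (Nat.pos_of_ne_zero hn0)]
  intro w hw
  have hyw : Commute y w := (mem_centralizer_singleton_iff.mp hw).symm
  rcases hG.mem_zpowers_or hr hr2 hx hyro (hxy.pow_right n) hvx (inv_pow_eq hvy n) with h | h
  · obtain ⟨k, hk⟩ := mem_zpowers_iff.mp h
    rw [← hk]
    exact (hyw.pow_left n).zpow_left k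
  · set y' := y ^ r ^ f with hy'
    have hy'o : orderOf y' = n := by
      rw [hy', orderOf_pow_of_dvd (pow_ne_zero _ hr.ne_zero) ⟨n, hyd⟩, hyd,
        Nat.mul_div_cancel_left _ (pow_pos hr.pos f)]
    have hcop : (r ^ e).Coprime n := (hr.coprime_iff_not_dvd.mpr hn).pow_left e
    set z := y' * x with hz
    have hc : Commute y' x := hxy.symm.pow_left _
    obtain ⟨c₁, hc₁1, hc₁2⟩ := Nat.chineseRemainder hcop 1 0
    have hxz : z ^ c₁ = x := by
      rw [hz, hc.mul_pow, ← pow_mod_orderOf y' c₁, hy'o, hc₁2, Nat.zero_mod, pow_zero, one_mul,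
        ← pow_mod_orderOf x c₁, hx, hc₁1, ← hx, pow_mod_orderOf, pow_one]
    have hxz' : x ∈ zpowers z := hxz ▸ pow_mem (mem_zpowers z) c₁
    have hy'z : y' ∈ zpowers z := by
      have := mul_mem (mem_zpowers z) (inv_mem hxz')
      rwa [hz, mul_inv_cancel_right] at this
    have hyrz : yr ∈ zpowers z := zpowers_le.mpr hxz' h
    have hyz : y ∈ zpowers z := by
      obtain ⟨c₂, hc₂⟩ : ∃ c : ℤ, (r ^ f : ℕ) * c + (n : ℤ) * Int.gcdB (r ^ f : ℕ) n = 1 :=
        ⟨Int.gcdA (r ^ f : ℕ) n, by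
          rw [← Int.gcd_eq_gcd_ab, Int.gcd_natCast_natCast,
            ((hr.coprime_iff_not_dvd.mpr hn).pow_left f)]; rfl⟩
      rw [← zpow_one y, ← hc₂, zpow_add, zpow_mul, zpow_mul, zpow_natCast, zpow_natCast]
      exact mul_mem (zpow_mem hy'z _) (zpow_mem hyrz _)
    have hvz : v * z * v⁻¹ = z⁻¹ := by
      rw [hz, ← conj_mul, inv_pow_eq hvy, hvx, mul_inv_rev, hc.inv_inv.eq]
    have hz1 : z ≠ 1 := fun h1 => hy (by
      rw [h1, zpowers_one_eq_bot, mem_bot] at hyz; exact hyz)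
    have hzo : Odd (orderOf z) := by
      refine odd_orderOf_of_dvd (hyo.mul ((hr.odd_of_ne_two hr2).pow (n := e))) ?_
      rw [hz, hc.mul_pow, pow_mul, pow_mul, hy', ← pow_mul y (r ^ f) (orderOf y),
        mul_comm (r ^ f) (orderOf y), pow_mul y (orderOf y), pow_orderOf_eq_one, one_pow, one_pow,
        one_mul, ← pow_mul, mul_comm, pow_mul, ← hx, pow_orderOf_eq_one, one_pow]
    have hle : centralizer ({z} : Set G) ≤ centralizer ({y} : Set G) := by
      intro a ha
      obtain ⟨k, hk⟩ := mem_zpowers_iff.mp hyz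
      rw [mem_centralizer_singleton_iff, ← hk]
      exact ((show Commute a z from mem_centralizer_singleton_iff.mp ha).zpow_right k).eq
    have heq := eq_of_le_of_card_ge hle (hmin z hz1 hzo hvz)
    rw [← heq] at hw
    obtain ⟨k, hk⟩ := mem_zpowers_iff.mp hxz'
    rw [← hk]
    exact (show Commute w z from mem_centralizer_singleton_iff.mp hw).symm.zpow_left k

theorem inverted_central {y v : G} (hy : y ≠ 1) (hyo : Odd (orderOf y))
    (hvy : v * y * v⁻¹ = y⁻¹)
    (hmin : ∀ z : G, z ≠ 1 → Odd (orderOf z) → v * z * v⁻¹ = z⁻¹ →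
      Nat.card (centralizer ({y} : Set G)) ≤ Nat.card (centralizer ({z} : Set G))) :
    ∀ x : G, Odd (orderOf x) → Commute x y → v * x * v⁻¹ = x⁻¹ →
      ∀ w ∈ centralizer ({y} : Set G), Commute x w := by
  intro x
  induction hn : orderOf x using Nat.strong_induction_on generalizing x with
  | _ n ih =>
    intro hxo hxy hvx w hw
    by_cases h1 : n = 1
    · rw [h1, orderOf_eq_one_iff] at hn
      rw [hn]
      exact Commute.one_left w
    set r := n.minFac with hr'
    have hr : r.Prime := Nat.minFac_prime h1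
    have hn0 : n ≠ 0 := hn ▸ (orderOf_pos x).ne'
    obtain ⟨e, m, hm, hnd⟩ := Nat.exists_eq_pow_mul_and_not_dvd hn0 r hr.ne_one
    have hr2 : r ≠ 2 := fun h2 => (Nat.not_even_iff_odd.mpr hxo)
      (even_iff_two_dvd.mpr (h2 ▸ Nat.minFac_dvd n))
    have hm0 : m ≠ 0 := fun h => hm (h ▸ dvd_zero r)
    have he : e ≠ 0 := fun h => hm (by
      rw [h, pow_zero, one_mul] at hnd; exact hnd ▸ Nat.minFac_dvd n)
    have h1' : orderOf (x ^ m) = r ^ e := by
      rw [orderOf_pow_of_dvd hm0 ⟨r ^ e, by rw [hn, hnd, mul_comm]⟩, hn, hnd,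
        Nat.mul_div_cancel _ (Nat.pos_of_ne_zero hm0)]
    have h2' : orderOf (x ^ r ^ e) = m := by
      rw [orderOf_pow_of_dvd (pow_ne_zero _ hr.ne_zero) ⟨m, hn.trans hnd⟩, hn, hnd,
        Nat.mul_div_cancel_left _ (pow_pos hr.pos e)]
    have hlt : m < n := by
      rw [hnd]
      exact lt_mul_of_one_lt_left (Nat.pos_of_ne_zero hm0) (Nat.one_lt_pow he hr.one_lt)
    have hA := hG.primePow_central hy hyo hvy hmin hr hr2 h1' (hxy.pow_left m)
      (inv_pow_eq hvx m) w hw
    have hmo : Odd m := hxo.of_dvd_nat ⟨r ^ e, by rw [hnd, mul_comm]⟩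
    have hB := ih m hlt (x ^ r ^ e) h2' hmo (hxy.pow_left _)
      (inv_pow_eq hvx _) w hw
    obtain ⟨c, hc⟩ : ∃ c : ℤ, (r ^ e : ℕ) * c + (m : ℤ) * Int.gcdB (r ^ e : ℕ) m = 1 :=
      ⟨Int.gcdA (r ^ e : ℕ) m, by
        rw [← Int.gcd_eq_gcd_ab, Int.gcd_natCast_natCast,
          ((hr.coprime_iff_not_dvd.mpr hm).pow_left e)]; rfl⟩
    rw [← zpow_one x, ← hc, zpow_add, zpow_mul, zpow_mul, zpow_natCast, zpow_natCast]
    exact (hB.zpow_left _).mul_left (hA.zpow_left _)

/-- A central involution of a Sylow `2`-subgroup is central in any Sylow `2`-subgroup containing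
it. -/
theorem mem_omega_of_mem {S S' : Sylow 2 G} {v : G} (hv : v ∈ omega S) (hvS' : v ∈ S') :
    v ∈ omega S' := by
  by_cases hv1 : v = 1
  · rw [hv1]; exact one_mem _
  have := Fact.mk Nat.prime_two
  obtain ⟨y₀, hy₀⟩ := hG.exists_inverted hv hv1
  obtain ⟨y, ⟨hy, hyo, hvy⟩, hmin⟩ := Set.exists_min_image
    {y : G | y ≠ 1 ∧ Odd (orderOf y) ∧ v * y * v⁻¹ = y⁻¹}
    (fun y => Nat.card (centralizer ({y} : Set G))) (Set.toFinite _) ⟨y₀, hy₀⟩
  have hyreal : IsConj y y⁻¹ := isConj_iff.mpr ⟨v, hvy⟩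
  have hvv : v * v = 1 := hv.2.1
  have hvi : v⁻¹ = v := inv_eq_of_mem_omega hv
  have hcen := hG.inverted_central hy hyo hvy (fun z h1 h2 h3 => hmin z ⟨h1, h2, h3⟩)
  set W : Subgroup G := centralizer ({y} : Set G) with hW
  have hWy : ∀ {w : G}, w ∈ W ↔ Commute w y := mem_centralizer_singleton_iff
  have hvnW : v ∉ W := fun h => hy (eq_one_of_odd_of_inv_eq hyo (by
    rw [← hvy, (hWy.mp h).eq, mul_inv_cancel_right]))
  have hvW : ∀ {w : G}, w ∈ W → v * w * v⁻¹ ∈ W := by
    intro w hw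
    refine hWy.mpr ?_
    have h := (Commute.inv_right (hWy.mp hw)).map (MulAut.conj v).toMonoidHom
    simp only [MulEquiv.coe_toMonoidHom, MulAut.conj_apply] at h
    rwa [← conj_inv, hvy, inv_inv] at h
  -- the claim
  have hB : ∀ c ∈ W, Commute v (c * v * c⁻¹) → c * v * c⁻¹ = v := by
    intro c hc hcv
    set Z : Subgroup G := W ⊓ centralizer (W : Set G) with hZ
    have hvN : zpowers v ≤ normalizer (W : Set G) := by
      rw [zpowers_le]
      refine mem_set_normalizer_iff.mpr fun a => ⟨fun h => hvW h, fun h => ?_⟩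
      have h' := hvW h
      rw [SetLike.mem_coe] at *
      have e : v * (v * a * v⁻¹) * v⁻¹ = a := by
        rw [hvi, show v * (v * a * v) * v = (v * v) * a * (v * v) by group, hvv, one_mul, mul_one]
      rwa [e] at h'
    set U : Subgroup G := W ⊔ zpowers v with hU
    have hUmem : ∀ {g : G}, g ∈ U → ∃ w ∈ W, ∃ k : ℤ, w * v ^ k = g := by
      intro g hg
      obtain ⟨w, hw, a, ha, rfl⟩ := (Coprime.mem_sup_of_le_normalizer hvN).mp hg
      obtain ⟨k, rfl⟩ := mem_zpowers_iff.mp ha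
      exact ⟨w, hw, k, rfl⟩
    have hWU : W ≤ U := le_sup_left
    have hvU : v ∈ U := le_sup_right (a := W) (mem_zpowers v)
    have hZn : (Z.subgroupOf U).Normal := by
      refine ⟨fun a ha g => ?_⟩
      rw [mem_subgroupOf] at ha ⊢
      obtain ⟨w, hw, k, hwk⟩ := hUmem g.2
      have hconj : ∀ a ∈ Z, v * a * v⁻¹ ∈ Z := by
        rintro a ⟨haW, haC⟩
        refine ⟨hvW haW, fun b hb => ?_⟩
        have h := mem_centralizer_iff.mp haC (v * b * v⁻¹) (hvW hb)
        calc b * (v * a * v⁻¹) = v * (v⁻¹ * b * v * a) * v⁻¹ := by group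
          _ = v * (v * b * v⁻¹ * a) * v⁻¹ := by rw [hvi]
          _ = v * (a * (v * b * v⁻¹)) * v⁻¹ := by rw [h]
          _ = v * (a * (v⁻¹ * b * v)) * v⁻¹ := by rw [hvi]
          _ = v * a * v⁻¹ * b := by group
      have hk : v ^ k * (a : G) * (v ^ k)⁻¹ ∈ Z := by
        have h2 : (v : G) ^ (2 : ℤ) = 1 := by rw [zpow_two, hvv]
        rcases Int.even_or_odd' k with ⟨i, rfl | rfl⟩
        · simpa [zpow_mul, h2] using ha
        · have := hconj _ ha
          simpa [zpow_add_one, zpow_mul, h2] using this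
      have hww : w * (v ^ k * (a : G) * (v ^ k)⁻¹) * w⁻¹ = v ^ k * (a : G) * (v ^ k)⁻¹ := by
        rw [mem_centralizer_iff.mp hk.2 w hw, mul_inv_cancel_right]
      have e : ((g * a * g⁻¹ : U) : G) = w * (v ^ k * (a : G) * (v ^ k)⁻¹) * w⁻¹ := by
        rw [Subgroup.coe_mul, Subgroup.coe_mul, Subgroup.coe_inv, ← hwk]; group
      rw [e, hww]
      exact hk
    set π := QuotientGroup.mk' (Z.subgroupOf U)
    set t := π ⟨v, hvU⟩ with ht
    have ht2 : orderOf t = 2 := by
      refine Invol.orderOf_eq_two_iff.mpr ⟨fun h => hvnW ?_, ?_⟩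
      · exact (mem_subgroupOf.mp ((QuotientGroup.eq_one_iff _).mp h)).1
      · rw [ht, ← map_mul, show (⟨v, hvU⟩ : U) * ⟨v, hvU⟩ = 1 from Subtype.ext hvv, map_one]
    obtain ⟨N, hNn, hNp, htN⟩ : ∃ N : Subgroup (U ⧸ Z.subgroupOf U),
        N.Normal ∧ IsPGroup 2 N ∧ t ∈ N := by
      by_contra hcon
      push Not at hcon
      obtain ⟨gq, h, h1, h2, -, hmem⟩ := Invol.exists_inverted_odd ht2 hcon
      obtain ⟨g, rfl⟩ := QuotientGroup.mk'_surjective _ gq
      obtain ⟨w, hw, k, hwk⟩ := hUmem g.2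
      set d := v * (w * v * w⁻¹) with hd
      have hdW : d ∈ W := by
        have := mul_mem (hvW hw) (inv_mem hw)
        rw [hd]
        have e : v * (w * v * w⁻¹) = v * w * v⁻¹ * w⁻¹ := by rw [hvi]; group
        rwa [e]
      obtain ⟨i, i', -, -, hi⟩ := exists_odd_pow d
      have hdinv : v * d * v⁻¹ = d⁻¹ := by
        rw [hd, mul_inv_rev, mul_inv_rev, mul_inv_rev, inv_inv, hvi,
          show v * (v * (w * v * w⁻¹)) * v = (v * v) * (w * v * w⁻¹ * v) by group, hvv, one_mul]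
        group
      have hcd := hcen _ hi (hWy.mp (pow_mem hdW _)) (inv_pow_eq hdinv _)
      have hdZ : d ^ 2 ^ i' ∈ Z :=
        ⟨pow_mem hdW _, fun b hb => (hcd b hb).eq.symm⟩
      have hdU : d ∈ U := hWU hdW
      have hπd : t * (π g * t * (π g)⁻¹) = π ⟨d, hdU⟩ := by
        rw [ht, ← map_inv, ← map_mul, ← map_mul, ← map_mul]
        refine congrArg π (Subtype.ext ?_)
        simp only [Subgroup.coe_mul, Subgroup.coe_inv, ← hwk, hd]
        have hk : v ^ k * v * (v ^ k)⁻¹ = v := by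
          rw [((Commute.refl v).zpow_left k).eq, mul_inv_cancel_right]
        conv_rhs => rw [← hk]
        group
      have hpow : (π ⟨d, hdU⟩) ^ 2 ^ i' = 1 := by
        rw [← map_pow]
        exact (QuotientGroup.eq_one_iff _).mpr (mem_subgroupOf.mpr (by simpa using hdZ))
      rw [hπd] at hmem
      obtain ⟨j, rfl⟩ := mem_zpowers_iff.mp hmem
      exact h1 (eq_one_of_odd_of_two_pow (k := i') h2 (by
        rw [← zpow_natCast, ← zpow_mul, mul_comm, zpow_mul, zpow_natCast, hpow, one_zpow]))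
    -- the kernel of `W → U ⧸ Z` is central
    set f : W →* U ⧸ Z.subgroupOf U := π.comp (inclusion hWU)
    set D : Subgroup W := N.comap f
    set d := v * (c * v * c⁻¹) with hd
    have hd' : d = v * c * v⁻¹ * c⁻¹ := by rw [hd, hvi]; group
    have hdW : d ∈ W := hd' ▸ mul_mem (hvW hc) (inv_mem hc)
    have hdD : (⟨d, hdW⟩ : W) ∈ D := by
      have e : f ⟨d, hdW⟩ = t * (π ⟨c, hWU hc⟩ * t * (π ⟨c, hWU hc⟩)⁻¹) := by
        rw [ht, ← map_inv, ← map_mul, ← map_mul, ← map_mul]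
        exact congrArg π (Subtype.ext hd)
      rw [mem_comap, e]
      exact mul_mem htN (hNn.conj_mem t htN _)
    let f' : D →* N := (f.comp D.subtype).codRestrict N fun a => a.2
    have hker : f'.ker ≤ center D := by
      intro a ha
      have h1 : f (a : W) = 1 := congrArg Subtype.val (MonoidHom.mem_ker.mp ha)
      have h2 : ((a : W) : G) ∈ Z := mem_subgroupOf.mp
        ((QuotientGroup.eq_one_iff (N := Z.subgroupOf U) (inclusion hWU (a : W))).mp h1)
      exact mem_center_iff.mpr fun b =>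
        Subtype.ext (Subtype.ext (mem_centralizer_iff.mp h2.2 _ (b : W).2))
    have := hNp.isNilpotent
    have hDnil : Group.IsNilpotent D := Subgroup.isNilpotent_of_ker_le_center f' hker
    have hd2 : d * d = 1 := by
      rw [hd, hcv.symm.mul_mul_mul_comm, hvv, one_mul, conj_mul, hvv, mul_one, mul_inv_cancel]
    have hdp : (⟨⟨d, hdW⟩, hdD⟩ : D) ∈ Cfsg.pCore 2 D := by
      have hp : IsPGroup 2 (zpowers (⟨⟨d, hdW⟩, hdD⟩ : D)) := by
        rintro ⟨a, ha⟩
        obtain ⟨k, rfl⟩ := mem_zpowers_iff.mp ha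
        refine ⟨1, Subtype.ext ?_⟩
        rw [pow_one, SubmonoidClass.coe_pow, OneMemClass.coe_one, ← zpow_natCast, ← zpow_mul,
          mul_comm, zpow_mul, zpow_natCast, pow_two,
          show (⟨⟨d, hdW⟩, hdD⟩ : D) * ⟨⟨d, hdW⟩, hdD⟩ = 1 from Subtype.ext (Subtype.ext hd2),
          one_zpow]
      obtain ⟨P, hP⟩ := hp.exists_le_sylow
      have hPn : (P : Subgroup D).Normal :=
        (Group.isNilpotent_of_finite_tfae (G := D)).out 0 3 rfl rfl |>.mp hDnil 2 ⟨Nat.prime_two⟩ P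
      exact Core.le_pCore P.2 (hP (mem_zpowers _))
    have hdW2 : (⟨d, hdW⟩ : W) ∈ Cfsg.pCore 2 W := by
      have hm := mem_map_of_mem D.subtype hdp
      rw [Core.map_pCore_normal] at hm
      exact hm.1
    rw [hG.pCore_centralizer_eq_bot hyreal hy hyo, mem_bot] at hdW2
    have hd1 : d = 1 := congrArg Subtype.val hdW2
    rw [hd, mul_eq_one_iff_eq_inv] at hd1
    exact inv_injective (by rw [← hd1, hvi])
  obtain ⟨c, hc, rfl⟩ := hG.trans y hyreal hy hyo S S'
  have hcW : c ∈ W := hWy.mpr hc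
  have h1 := conj_mem_omega_smul (g := c) hv
  rwa [hB c hcW (h1.2.2 v hvS').symm] at h1

theorem conj_mem_omega_of_mem {S : Sylow 2 G} {v g : G} (hv : v ∈ omega S)
    (hg : g * v * g⁻¹ ∈ S) : g * v * g⁻¹ ∈ omega S := by
  have h1 : v ∈ g⁻¹ • S := mem_smul_sylow.mpr (by simpa using hg)
  have h2 := conj_mem_omega_smul (g := g) (hG.mem_omega_of_mem hv h1)
  rwa [smul_inv_smul] at h2

theorem eq_of_omega_le {S S' : Sylow 2 G} (h : ∀ v ∈ omega S, v ∈ S') : S' = S := by
  have := Fact.mk Nat.prime_two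
  set C : Subgroup G := centralizer (omega S : Set G) with hC
  have hS : (S : Subgroup G) ≤ C := fun s hs v hv => (hv.2.2 s hs).eq
  have hS' : (S' : Subgroup G) ≤ C := fun s hs v hv =>
    ((hG.mem_omega_of_mem hv (h v hv)).2.2 s hs).eq
  have hn : ((S.subtype hS : Sylow 2 C) : Subgroup C).Normal := by
    refine (Cfsg.Agent.S3861.result (S.subtype hS)).mp fun x hx hxo hxc => ?_
    have hxo' : Odd (orderOf (x : G)) := by rwa [orderOf_coe]
    refine hG.not_normalized (x := (x : G)) (MonoidHom.map_isConj C.subtype hxc)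
      (fun h1 => hx (Subtype.ext h1)) hxo' S fun v hv => ?_
    rw [(show Commute v (x : G) from (mem_centralizer_iff.mp x.2 v hv)).eq, mul_inv_cancel_right]
    exact mem_zpowers _
  have := Sylow.unique_of_normal _ hn
  have heq : S'.subtype hS' = S.subtype hS := Subsingleton.elim _ _
  refine Sylow.ext (le_antisymm (fun a ha => ?_) (fun a ha => ?_))
  · have ha' : (⟨a, hS' ha⟩ : C) ∈ (S'.subtype hS' : Sylow 2 C) := ha
    rw [heq] at ha'
    exact ha'
  · have ha' : (⟨a, hS ha⟩ : C) ∈ (S.subtype hS : Sylow 2 C) := ha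
    rw [← heq] at ha'
    exact ha'

end TopHyp

end Cfsg.Agent.RealGraph
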