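import Cfsg.Agent.RealGraph.Basic
import Cfsg.Agent.Invol.BaerSuzuki
import Cfsg.Agent.Core.PCore
import Cfsg.Agent.Core.Solvable
import Cfsg.Agent.Coprime.Tools

/-!
Finite groups without soluble normal subgroups in which centralisers of real elements of odd
order are transitive on Sylow `2`-subgroups: the central involutions of a Sylow `2`-subgroup.
-/

set_option autoImplicit false

namespace Cfsg.Agent.RealGraph

open Subgroup
open scoped Pointwise commutatorElement

variable {G : Type*} [Group G]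

/-- The hypotheses on the group. -/
structure TopHyp (G : Type*) [Group G] : Prop where
  rad : ∀ N : Subgroup G, N.Normal → Group.IsSolvable N → N = ⊥
  trans : SylTrans G
  rank : ∀ r : ℕ, r.Prime → r ≠ 2 → ∀ x y g : G, orderOf x = r → orderOf y = r → Commute x y →
    g * x * g⁻¹ = x⁻¹ → g * y * g⁻¹ = y⁻¹ → y ∈ zpowers x

/-- The central elements of order dividing two of a Sylow subgroup. -/
def omega (S : Sylow 2 G) : Subgroup G where
  carrier := {v | v ∈ S ∧ v * v = 1 ∧ ∀ s ∈ S, Commute v s}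
  one_mem' := ⟨one_mem _, one_mul 1, fun s _ => Commute.one_left s⟩
  mul_mem' := by
    rintro a b ⟨ha, ha2, hac⟩ ⟨hb, hb2, hbc⟩
    exact ⟨mul_mem ha hb, by rw [(hbc a ha).mul_mul_mul_comm, ha2, hb2, one_mul],
      fun s hs => (hac s hs).mul_left (hbc s hs)⟩
  inv_mem' := by
    rintro a ⟨ha, ha2, hac⟩
    exact ⟨inv_mem ha, by rw [← mul_inv_rev, ha2, inv_one], fun s hs => (hac s hs).inv_left⟩

theorem omega_le (S : Sylow 2 G) : omega S ≤ (S : Subgroup G) := fun _ h => h.1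

theorem inv_eq_of_mem_omega {S : Sylow 2 G} {v : G} (hv : v ∈ omega S) : v⁻¹ = v :=
  inv_eq_of_mul_eq_one_right hv.2.1

theorem orderOf_omega {S : Sylow 2 G} {v : G} (hv : v ∈ omega S) (hv1 : v ≠ 1) : orderOf v = 2 :=
  Invol.orderOf_eq_two_iff.mpr ⟨hv1, hv.2.1⟩

theorem mem_smul_sylow {S : Sylow 2 G} {g a : G} : a ∈ g • S ↔ g⁻¹ * a * g ∈ S := by
  change a ∈ ((g • S : Sylow 2 G) : Subgroup G) ↔ _
  rw [Sylow.coe_subgroup_smul, Coprime.mem_conj_smul]
  exact Iff.rfl

theorem conj_mem_smul {S : Sylow 2 G} {g a : G} (ha : a ∈ S) : g * a * g⁻¹ ∈ g • S := by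
  rw [mem_smul_sylow]
  simpa [mul_assoc] using ha

theorem conj_mem_omega_smul {S : Sylow 2 G} {g v : G} (hv : v ∈ omega S) :
    g * v * g⁻¹ ∈ omega (g • S) := by
  refine ⟨conj_mem_smul hv.1, by rw [conj_mul, hv.2.1, mul_one, mul_inv_cancel], fun s hs => ?_⟩
  have h := Commute.map (hv.2.2 _ (mem_smul_sylow.mp hs)) (MulAut.conj g).toMonoidHom
  simpa [mul_assoc] using h

theorem conj_mem_omega {S : Sylow 2 G} {n v : G} (hn : n ∈ normalizer (S : Set G))
    (hv : v ∈ omega S) : n * v * n⁻¹ ∈ omega S := by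
  have h := conj_mem_omega_smul (g := n) hv
  rwa [Sylow.smul_eq_iff_mem_normalizer.mpr hn] at h

variable [Finite G]

theorem exists_smul_of_isPGroup {P M : Subgroup G} (hP : IsPGroup 2 P) (hPM : P ≤ M)
    {S : Sylow 2 G} (hSM : (S : Subgroup G) ≤ M) :
    ∃ m ∈ M, P ≤ ((m • S : Sylow 2 G) : Subgroup G) := by
  have := Fact.mk Nat.prime_two
  obtain ⟨Q, hQ⟩ := (hP.comap_subtype (K := M)).exists_le_sylow
  obtain ⟨m, hm⟩ := MulAction.exists_smul_eq M (S.subtype hSM) Q
  refine ⟨m, m.2, fun p hp => ?_⟩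
  have hpQ : (⟨p, hPM hp⟩ : M) ∈ (Q : Subgroup M) := hQ hp
  rw [← hm, Sylow.smul_subtype] at hpQ
  exact hpQ

omit [Finite G] in
theorem eq_of_le_normalizer {S T : Sylow 2 G}
    (h : (T : Subgroup G) ≤ normalizer (S : Set G)) : T = S := by
  have h' := T.2.inf_normalizer_sylow S
  rw [inf_eq_left.mpr h] at h'
  exact (Sylow.ext (T.3 S.2 (h'.le.trans inf_le_right))).symm

omit [Finite G] in
theorem mem_pCore_of_forall_sylow {a : G} (h : ∀ S : Sylow 2 G, a ∈ S) :
    a ∈ Cfsg.pCore 2 G := by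
  have := Fact.mk Nat.prime_two
  obtain ⟨S⟩ := (inferInstance : Nonempty (Sylow 2 G))
  have hle : normalClosure {a} ≤ (S : Subgroup G) := by
    refine (closure_le _).mpr fun z hz => ?_
    obtain ⟨b, hb, hbz⟩ := Group.mem_conjugatesOfSet_iff.mp hz
    rw [Set.mem_singleton_iff] at hb
    subst hb
    obtain ⟨c, rfl⟩ := isConj_iff.mp hbz
    have := mem_smul_sylow.mp (h (c⁻¹ • S))
    simpa using this
  exact Core.le_pCore (S.2.to_le hle) (subset_normalClosure rfl)

namespace TopHyp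

variable (hG : TopHyp G)
include hG

theorem pCore_eq_bot : Cfsg.pCore 2 G = ⊥ :=
  hG.rad _ inferInstance (isSolvable_of_subgroup_two Core.pCore_isPGroup)

theorem notMem_normalizer {x : G} (hx : IsConj x x⁻¹) (hx1 : x ≠ 1) (hxo : Odd (orderOf x))
    (S : Sylow 2 G) : x ∉ normalizer (S : Set G) := by
  intro hmem
  have := Fact.mk Nat.prime_two
  set C : Subgroup G := ⨅ T : Sylow 2 G, normalizer (T : Set G) with hC
  have hxC : x ∈ C := by
    refine mem_iInf.mpr fun T => ?_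
    obtain ⟨c, hc, rfl⟩ := hG.trans x hx hx1 hxo S T
    rw [← Sylow.smul_eq_iff_mem_normalizer, smul_smul, ← hc.eq, ← smul_smul,
      Sylow.smul_eq_iff_mem_normalizer.mpr hmem]
  have hCn : C.Normal := by
    refine ⟨fun a ha g => mem_iInf.mpr fun T => ?_⟩
    have h := Sylow.smul_eq_iff_mem_normalizer.mpr (mem_iInf.mp ha (g⁻¹ • T))
    rw [← Sylow.smul_eq_iff_mem_normalizer, mul_smul, mul_smul, h, smul_inv_smul]
  obtain ⟨Q⟩ := (inferInstance : Nonempty (Sylow 2 C))
  obtain ⟨T, hT⟩ := (Q.2.map C.subtype).exists_le_sylow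
  have hQT : (Q : Subgroup C) = (T : Subgroup G).subgroupOf C := by
    refine (Q.3 (T.2.comap_subtype) ?_).symm
    intro a ha
    exact hT (mem_map_of_mem _ ha)
  have hQn : (Q : Subgroup C).Normal := by
    rw [hQT]
    refine ⟨fun a ha c => ?_⟩
    have hc : (c : G) ∈ normalizer (T : Set G) := mem_iInf.mp c.2 T
    exact (mem_set_normalizer_iff.mp hc (a : G)).mp ha
  have hbot := hG.rad C hCn (isSolvable_of_normal_sylow Q hQn)
  rw [hbot, mem_bot] at hxC
  exact hx1 hxC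

theorem pCore_centralizer_eq_bot {x : G} (hx : IsConj x x⁻¹) (hx1 : x ≠ 1)
    (hxo : Odd (orderOf x)) : Cfsg.pCore 2 (centralizer ({x} : Set G)) = ⊥ := by
  have := Fact.mk Nat.prime_two
  set W : Subgroup G := centralizer ({x} : Set G) with hW
  refine (eq_bot_iff_forall _).mpr fun p hp => ?_
  obtain ⟨S, hS⟩ := ((Core.pCore_isPGroup (p := 2) (G := W)).map W.subtype).exists_le_sylow
  have h : (p : G) ∈ Cfsg.pCore 2 G := by
    refine mem_pCore_of_forall_sylow fun T => ?_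
    obtain ⟨c, hc, rfl⟩ := hG.trans x hx hx1 hxo S T
    have hcW : c ∈ W := mem_centralizer_singleton_iff.mpr hc.eq
    refine mem_smul_sylow.mpr (hS ⟨(⟨c, hcW⟩ : W)⁻¹ * p * ⟨c, hcW⟩, ?_, rfl⟩)
    simpa using (Core.pCore_normal (p := 2) (G := W)).conj_mem p hp (⟨c, hcW⟩ : W)⁻¹
  rw [hG.pCore_eq_bot, mem_bot] at h
  exact Subtype.ext h

omit hG in
theorem exists_omega_mem {S : Sylow 2 G} {N : Subgroup G} [N.Normal] {a : G} (ha : a ∈ N)
    (haS : a ∈ S) (ha1 : a ≠ 1) : ∃ v ∈ omega S, v ∈ N ∧ v ≠ 1 := by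
  have := Fact.mk Nat.prime_two
  have := S.2.isNilpotent
  have hne : N.subgroupOf (S : Subgroup G) ≠ ⊥ := fun h => ha1 <| congrArg Subtype.val
    ((eq_bot_iff_forall _).mp h ⟨a, haS⟩ ha)
  have hI := Core.inf_center_ne_bot hne
  obtain ⟨k, hk0, hk⟩ := ((S.2.to_subgroup _).nontrivial_iff_card
    (G := ↥(N.subgroupOf (S : Subgroup G) ⊓ center (S : Subgroup G)))).mp
    ((nontrivial_iff_ne_bot _).mpr hI)
  obtain ⟨v, hv⟩ := exists_prime_orderOf_dvd_card' 2 (hk ▸ dvd_pow_self 2 hk0.ne')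
  obtain ⟨hvN, hvZ⟩ := v.2
  have hv' : orderOf ((v : (S : Subgroup G)) : G) = 2 := by rw [orderOf_coe, orderOf_coe, hv]
  refine ⟨_, ⟨(v : (S : Subgroup G)).2, Invol.mul_self_eq_one hv', fun s hs => ?_⟩, hvN,
    Invol.ne_one hv'⟩
  exact congrArg Subtype.val (mem_center_iff.mp hvZ ⟨s, hs⟩).symm

theorem not_normalized {x : G} (hx : IsConj x x⁻¹) (hx1 : x ≠ 1) (hxo : Odd (orderOf x))
    (S : Sylow 2 G) : ¬ ∀ v ∈ omega S, v * x * v⁻¹ ∈ zpowers x := by
  intro hnorm
  have := Fact.mk Nat.prime_two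
  have hnz : ∀ {a y : G}, a * y * a⁻¹ ∈ zpowers y →
      a ∈ normalizer ((zpowers y : Subgroup G) : Set G) := by
    intro a y h
    apply Coprime.mem_normalizer_of_conj_smul_eq
    refine eq_of_le_of_card_ge ?_ (Nat.card_congr (equivSMul (MulAut.conj a) (zpowers y)).toEquiv).le
    rw [Coprime.conj_smul_eq_map, MonoidHom.map_zpowers, zpowers_le]
    exact h
  set M₀ : Subgroup G := ⨅ g : G, normalizer ((zpowers (g * x * g⁻¹) : Subgroup G) : Set G)
  have hM : ∀ {a : G}, a ∈ M₀ → ∀ g : G, a * (g * x * g⁻¹) * a⁻¹ ∈ zpowers (g * x * g⁻¹) :=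
    fun ha g => (mem_set_normalizer_iff.mp (mem_iInf.mp ha g) _).mp (mem_zpowers _)
  have hM₀ : M₀.Normal := by
    refine ⟨fun a ha h => mem_iInf.mpr fun g => hnz ?_⟩
    obtain ⟨i, hi⟩ := mem_zpowers_iff.mp (hM ha (h⁻¹ * g))
    refine mem_zpowers_iff.mpr ⟨i, ?_⟩
    calc (g * x * g⁻¹) ^ i
        = h * (h⁻¹ * g * x * (h⁻¹ * g)⁻¹) ^ i * h⁻¹ := by rw [← conj_zpow]; group
      _ = h * a * h⁻¹ * (g * x * g⁻¹) * (h * a * h⁻¹)⁻¹ := by rw [hi]; group
  have hΩ : omega S ≤ M₀ := by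
    refine fun v hv => mem_iInf.mpr fun g => hnz ?_
    obtain ⟨c, hc, hcS⟩ := hG.trans x hx hx1 hxo S (g⁻¹ • S)
    have hn : g * c ∈ normalizer (S : Set G) := by
      rw [← Sylow.smul_eq_iff_mem_normalizer, mul_smul, hcS, smul_inv_smul]
    have hgx : g * x * g⁻¹ = g * c * x * (g * c)⁻¹ := by
      rw [mul_assoc g c x, hc.eq]
      group
    obtain ⟨i, hi⟩ := mem_zpowers_iff.mp (hnorm _ (conj_mem_omega (inv_mem hn) hv))
    refine mem_zpowers_iff.mpr ⟨i, ?_⟩
    rw [hgx, conj_zpow, hi]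
    group
  set X : Subgroup G := normalClosure {x}
  set J : Subgroup G := M₀ ⊓ X
  have hJ : J = ⊥ := by
    refine hG.rad J (normal_inf_normal _ _) ?_
    suffices hc : commutator J ≤ center J by
      have : Group.IsNilpotent J :=
        _root_.Subgroup.isNilpotent_of_ker_le_center (Abelianization.of (G := J)) (by rwa [Abelianization.ker_of])
      infer_instance
    rw [_root_.commutator_def, commutator_le]
    intro a _ b _
    rw [mem_center_iff]
    intro d
    refine Subtype.ext ?_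
    have hX : X ≤ centralizer {⁅(a : G), (b : G)⁆} := by
      refine (closure_le _).mpr fun z hz => ?_
      obtain ⟨w, hw, hwz⟩ := Group.mem_conjugatesOfSet_iff.mp hz
      rw [Set.mem_singleton_iff] at hw
      rw [hw] at hwz
      obtain ⟨g, rfl⟩ := isConj_iff.mp hwz
      set y := g * x * g⁻¹ with hy
      have hab : ∀ {p q : G}, p ∈ M₀ → q ∈ M₀ → p * q * y * (p * q)⁻¹ = q * p * y * (q * p)⁻¹ := by
        intro p q hp hq
        obtain ⟨i, hi⟩ := mem_zpowers_iff.mp (hM hp g)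
        obtain ⟨j, hj⟩ := mem_zpowers_iff.mp (hM hq g)
        rw [← hy] at hi hj
        calc p * q * y * (p * q)⁻¹ = p * (q * y * q⁻¹) * p⁻¹ := by group
          _ = (y ^ i) ^ j := by rw [← hj, ← conj_zpow, hi]
          _ = (y ^ j) ^ i := by rw [← zpow_mul, ← zpow_mul, mul_comm]
          _ = q * (p * y * p⁻¹) * q⁻¹ := by rw [← hi, ← conj_zpow, hj]
          _ = q * p * y * (q * p)⁻¹ := by group
      refine mem_centralizer_singleton_iff.mpr ?_
      refine Eq.symm (mul_inv_eq_iff_eq_mul.mp ?_)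
      calc ⁅(a : G), (b : G)⁆ * y * ⁅(a : G), (b : G)⁆⁻¹
          = (a : G) * b * ((a : G)⁻¹ * (b : G)⁻¹ * y * ((a : G)⁻¹ * (b : G)⁻¹)⁻¹) *
              ((a : G) * b)⁻¹ := by rw [commutatorElement_def]; group
        _ = y := by rw [hab (inv_mem a.2.1) (inv_mem b.2.1)]; group
    exact congrArg id (mem_centralizer_singleton_iff.mp (hX d.2.2))
  obtain ⟨a, haX, haS, ha1⟩ : ∃ a ∈ X, a ∈ S ∧ a ≠ 1 := by
    by_contra hcon
    push Not at hcon
    have hodd : Odd (Nat.card X) := by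
      rw [Nat.odd_iff, ← Nat.two_dvd_ne_zero]
      intro h2
      obtain ⟨e, he⟩ := exists_prime_orderOf_dvd_card' 2 h2
      have he' : orderOf (e : G) = 2 := by rw [orderOf_coe, he]
      obtain ⟨g, -, hg⟩ := exists_smul_of_isPGroup (P := zpowers (e : G)) (M := ⊤) (S := S)
        (IsPGroup.of_card (n := 1) (by rw [Nat.card_zpowers, he', pow_one])) le_top le_top
      have hge := hcon (g⁻¹ * e * g) (by simpa using normalClosure_normal.conj_mem _ e.2 g⁻¹)
        (mem_smul_sylow.mp (hg (mem_zpowers _)))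
      refine Invol.ne_one he' ?_
      have := congrArg (fun t => g * t * g⁻¹) hge
      simpa [mul_assoc] using this
    have := hG.rad X normalClosure_normal (isSolvable_of_odd hodd)
    exact hx1 (mem_bot.mp (this ▸ subset_normalClosure (Set.mem_singleton x)))
  obtain ⟨v, hv, hvX, hv1⟩ := exists_omega_mem haX haS ha1
  exact hv1 (mem_bot.mp (hJ ▸ (show v ∈ J from ⟨hΩ hv, hvX⟩)))

end TopHyp

end Cfsg.Agent.RealGraph
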