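import Cfsg.Agent.RealGraph.Central
import Cfsg.Agent.Core.Complements
import Cfsg.Agent.Invol.Pair

/-!
A finite group with a noncentral element `t`, `t ^ 2 = 1`, whose class has odd size coprime to the
class sizes of the real elements `x` with `x ^ 2 ≠ 1` is soluble.
-/

set_option autoImplicit false

namespace Cfsg.Agent.RealGraph

open Subgroup
open scoped Pointwise commutatorElement

universe u

variable {G : Type u} [Group G]

/-- The hypothesis on `t`. -/
structure RealHyp (t : G) : Prop where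
  sq : t * t = 1
  ncentral : t ∉ center G
  odd : Odd (centralizer ({t} : Set G)).index
  coprime : ∀ x : G, IsConj x x⁻¹ → x * x ≠ 1 →
    ((centralizer ({t} : Set G)).index).Coprime (centralizer ({x} : Set G)).index

theorem relIndex_dvd_index_of_normal' [Finite G] (N C : Subgroup G) [N.Normal] :
    C.relIndex N ∣ C.index := by
  have h1 := relIndex_mul_index (inf_le_left : C ⊓ N ≤ C)
  have h2 := relIndex_mul_index (inf_le_right : C ⊓ N ≤ N)
  rw [inf_relIndex_left] at h1
  rw [inf_relIndex_right, ← h1] at h2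
  obtain ⟨k, hk⟩ := relIndex_dvd_index_of_normal (H := N) (K := C)
  refine ⟨k, ?_⟩
  have h0 : N.relIndex C ≠ 0 := (index_ne_zero_of_finite : (N.subgroupOf C).index ≠ 0)
  rw [hk] at h2
  refine Nat.eq_of_mul_eq_mul_left (Nat.pos_of_ne_zero h0) ?_
  calc N.relIndex C * C.index = C.relIndex N * (N.relIndex C * k) := h2.symm
    _ = N.relIndex C * (C.relIndex N * k) := by ring

theorem centralizer_subgroupOf (N : Subgroup G) (x : N) :
    centralizer ({x} : Set N) = (centralizer ({(x : G)} : Set G)).subgroupOf N := by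
  ext a
  rw [mem_subgroupOf, mem_centralizer_singleton_iff, mem_centralizer_singleton_iff,
    Subtype.ext_iff]
  rfl

theorem index_centralizer_dvd_of_normal [Finite G] (N : Subgroup G) [N.Normal] (x : N) :
    (centralizer ({x} : Set N)).index ∣ (centralizer ({(x : G)} : Set G)).index := by
  rw [centralizer_subgroupOf]
  exact relIndex_dvd_index_of_normal' N _

theorem index_centralizer_map_dvd {H : Type u} [Group H] {f : G →* H} (hf : Function.Surjective f)
    (x : G) : (centralizer ({f x} : Set H)).index ∣ (centralizer ({x} : Set G)).index := by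
  refine (index_dvd_of_le ?_).trans ((centralizer ({x} : Set G)).index_map_dvd hf)
  rintro _ ⟨a, ha, rfl⟩
  have h : Commute a x := mem_centralizer_singleton_iff.mp ha
  exact mem_centralizer_singleton_iff.mpr (h.map f).eq

/-- Real elements of odd order lift through normal `2`-subgroups. -/
theorem exists_lift_real_two [Finite G] {N : Subgroup G} [N.Normal] (hN : IsPGroup 2 N)
    {q : G ⧸ N} (hq : IsConj q q⁻¹) (hqo : Odd (orderOf q)) :
    ∃ x : G, (x : G ⧸ N) = q ∧ IsConj x x⁻¹ ∧ Odd (orderOf x) := by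
  have := Fact.mk Nat.prime_two
  obtain ⟨a₀, rfl⟩ := QuotientGroup.mk_surjective q
  set π := QuotientGroup.mk' N
  obtain ⟨m, k, -, -, hk⟩ := exists_odd_pow a₀
  obtain ⟨j, hj⟩ := exists_pow_eq_self_of_coprime (x := π a₀) (n := 2 ^ k)
    ((Nat.coprime_two_left.mpr hqo).pow_left k)
  set x := (a₀ ^ 2 ^ k) ^ j with hx
  have hxo : Odd (orderOf x) := odd_pow_orderOf hk j
  have hπx : π x = π a₀ := by rw [hx, map_pow, map_pow, hj]
  obtain ⟨c, hc⟩ := isConj_iff.mp hq
  obtain ⟨s, rfl⟩ := QuotientGroup.mk'_surjective N c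
  obtain ⟨e, he⟩ := IsPGroup.iff_card.mp hN
  have hcop : (Nat.card (zpowers x)).Coprime (Nat.card N) := by
    rw [Nat.card_zpowers, he]
    exact (Nat.coprime_two_right.mpr hxo).pow_right e
  have hinv : π s * π x * (π s)⁻¹ = (π x)⁻¹ := by rw [hπx]; exact hc
  have hB : zpowers (s * x * s⁻¹) ≤ N ⊔ zpowers x := by
    rw [zpowers_le]
    have hmem : s * x * s⁻¹ * x ∈ N := by
      rw [← QuotientGroup.eq_one_iff]
      change π (s * x * s⁻¹ * x) = 1
      rw [map_mul, map_mul, map_mul, map_inv, hinv, inv_mul_cancel]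
    have := mul_mem_sup hmem (inv_mem (mem_zpowers x))
    rwa [mul_inv_cancel_right] at this
  obtain ⟨k', hk', hkB⟩ := Coprime.exists_conj_eq le_normalizer_of_normal hcop
    (Or.inl (Group.isSolvable_of_comm fun a b => Std.Commutative.comm a b)) hB
    (by rw [Nat.card_zpowers, Nat.card_zpowers, ← MulAut.conj_apply, MulEquiv.orderOf_eq])
  have hz : k' * (s * x * s⁻¹) * k'⁻¹ ∈ zpowers x := by
    rw [← hkB, Coprime.mem_conj_smul]
    simp [mul_assoc]
  have hπk : π k' = 1 := (QuotientGroup.eq_one_iff k').mpr hk'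
  have hz1 : k' * (s * x * s⁻¹) * k'⁻¹ * x = 1 := by
    rw [← mem_bot, ← Coprime.inf_eq_bot_of_coprime hcop]
    refine ⟨mul_mem hz (mem_zpowers x), (QuotientGroup.eq_one_iff (N := N) _).mp ?_⟩
    change π (k' * (s * x * s⁻¹) * k'⁻¹ * x) = 1
    rw [map_mul, map_mul, map_mul, map_mul, map_mul, map_inv, map_inv, hπk, one_mul, inv_one,
      mul_one, hinv, inv_mul_cancel]
  refine ⟨x, hπx, isConj_iff.mpr ⟨k' * s, ?_⟩, hxo⟩
  rw [← mul_eq_one_iff_eq_inv]
  simpa [mul_assoc] using hz1

namespace RealHyp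

variable [Finite G] {t : G} (ht : RealHyp t)
include ht

theorem exists_factor {x : G} (hx : IsConj x x⁻¹) (hx2 : x * x ≠ 1) (g : G) :
    ∃ c, Commute c x ∧ c⁻¹ * g ∈ centralizer ({t} : Set G) := by
  obtain ⟨c, hc, a, ha, rfl⟩ := Core.exists_mul_eq_of_coprime (ht.coprime x hx hx2).symm g
  exact ⟨c, mem_centralizer_singleton_iff.mp hc, by rwa [inv_mul_cancel_left]⟩

/-- No nontrivial element of odd order of the centraliser of `t` is inverted inside it. -/
theorem not_real_centralizer (x : centralizer ({t} : Set G)) (hx1 : x ≠ 1)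
    (hxo : Odd (orderOf x)) : ¬ IsConj x x⁻¹ := by
  intro hxc
  have hti : t⁻¹ = t := inv_eq_of_mul_eq_one_right ht.sq
  have hmem : ∀ {a : G}, a ∈ centralizer ({t} : Set G) ↔ Commute a t :=
    mem_centralizer_singleton_iff
  obtain ⟨a, ha⟩ := isConj_iff.mp hxc
  have ha' : (a : G) * x * (a : G)⁻¹ = (x : G)⁻¹ := congrArg Subtype.val ha
  have hxo' : Odd (orderOf (x : G)) := by rwa [orderOf_coe]
  have hxt : Commute (x : G) t := hmem.mp x.2
  have hz : IsConj (t * x) (t * x)⁻¹ := by
    refine isConj_iff.mpr ⟨a, ?_⟩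
    rw [← conj_mul, ha', (hmem.mp a.2).eq, mul_inv_cancel_right, mul_inv_rev, hti,
      hxt.inv_left.eq]
  have hz2 : t * x * (t * x) ≠ 1 := by
    rw [hxt.mul_mul_mul_comm, ht.sq, one_mul]
    exact sq_ne_one_of_odd hxo' fun h => hx1 (Subtype.ext h)
  refine ht.ncentral (mem_center_iff.mpr fun g => ?_)
  obtain ⟨c, hc, hcg⟩ := ht.exists_factor hz hz2 g
  have hpow : (t * x) ^ orderOf (x : G) = t := by
    rw [hxt.symm.mul_pow, pow_orderOf_eq_one, mul_one]
    obtain ⟨j, hj⟩ := hxo'
    rw [hj, pow_succ, pow_mul, pow_two, ht.sq, one_pow, one_mul]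
  have hcA : c ∈ centralizer ({t} : Set G) := hmem.mpr (hpow ▸ hc.pow_right _)
  have := mul_mem hcA hcg
  rw [mul_inv_cancel_left] at this
  exact (hmem.mp this).eq

/-- The centraliser of `t` has a normal Sylow `2`-subgroup, a Sylow `2`-subgroup of `G`. -/
theorem exists_sylow : Group.IsSolvable (centralizer ({t} : Set G)) ∧ ∃ S : Sylow 2 G,
    (S : Subgroup G) ≤ centralizer ({t} : Set G) ∧
      ∀ a ∈ centralizer ({t} : Set G), a • S = S := by
  have := Fact.mk Nat.prime_two
  set A : Subgroup G := centralizer ({t} : Set G)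
  obtain ⟨SA⟩ := (inferInstance : Nonempty (Sylow 2 A))
  have hSAn : (SA : Subgroup A).Normal :=
    (Cfsg.Agent.S3861.result SA).mp ht.not_real_centralizer
  refine ⟨isSolvable_of_normal_sylow SA hSAn, ?_⟩
  have hidx : ¬ 2 ∣ ((SA : Subgroup A).map A.subtype).index := by
    rw [index_map_subtype]
    exact fun h => (Nat.prime_two.dvd_mul.mp h).elim SA.not_dvd_index
      (fun h' => (Nat.not_even_iff_odd.mpr ht.odd) (even_iff_two_dvd.mpr h'))
  set S : Sylow 2 G := (SA.2.map A.subtype).toSylow hidx with hS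
  have hScoe : (S : Subgroup G) = (SA : Subgroup A).map A.subtype := IsPGroup.toSylow_coe _ hidx
  have hSA : (S : Subgroup G) ≤ A := hScoe ▸ map_subtype_le _
  refine ⟨S, hSA, fun a ha => ?_⟩
  refine Sylow.ext (eq_of_le_of_card_ge ?_ ?_)
  · intro z hz
    have hz' : a⁻¹ * z * a ∈ (S : Subgroup G) := mem_smul_sylow.mp hz
    rw [hScoe] at hz' ⊢
    obtain ⟨w, hw, hwz⟩ := hz'
    refine ⟨⟨a, ha⟩ * w * ⟨a, ha⟩⁻¹, hSAn.conj_mem w hw _, ?_⟩
    rw [A.coe_subtype] at hwz ⊢
    simp [hwz, mul_assoc]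
  · rw [Sylow.coe_subgroup_smul]
    exact (Nat.card_congr (equivSMul (MulAut.conj a) (S : Subgroup G)).toEquiv).le

end RealHyp

theorem realHyp_isSolvable_aux : ∀ (n : ℕ) (G : Type u) [Group G] [Finite G], Nat.card G = n →
    ∀ t : G, RealHyp t → Group.IsSolvable G := by
  intro n
  induction n using Nat.strong_induction_on with
  | _ n ih =>
  intro G _ _ hn t ht
  have := Fact.mk Nat.prime_two
  classical
  set A : Subgroup G := centralizer ({t} : Set G) with hA
  have hAmem : ∀ {a : G}, a ∈ A ↔ Commute a t := mem_centralizer_singleton_iff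
  have hti : t⁻¹ = t := inv_eq_of_mul_eq_one_right ht.sq
  have htA : t ∈ A := hAmem.mpr (Commute.refl t)
  have hfac : ∀ x : G, IsConj x x⁻¹ → x * x ≠ 1 →
      ∀ g : G, ∃ c, Commute c x ∧ c⁻¹ * g ∈ A := by
    intro x hx hx2 g
    obtain ⟨c, hc, a, ha, rfl⟩ := Core.exists_mul_eq_of_coprime (ht.coprime x hx hx2).symm g
    exact ⟨c, mem_centralizer_singleton_iff.mp hc, by rwa [inv_mul_cancel_left]⟩
  -- `A` has a normal Sylow `2`-subgroup
  obtain ⟨hAsol, S, hSA, hASn⟩ := ht.exists_sylow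
  have htrans : SylTrans G := by
    intro x hx hx1 hxo T T'
    obtain ⟨g, rfl⟩ := MulAction.exists_smul_eq G S T
    obtain ⟨g', rfl⟩ := MulAction.exists_smul_eq G S T'
    obtain ⟨c, hc, hcg⟩ := hfac x hx (sq_ne_one_of_odd hxo hx1) g
    obtain ⟨c', hc', hcg'⟩ := hfac x hx (sq_ne_one_of_odd hxo hx1) g'
    refine ⟨c' * c⁻¹, hc'.mul_left hc.inv_left, ?_⟩
    have e : g • S = c • S := by rw [← mul_inv_cancel_left c g, mul_smul, hASn _ hcg]
    have e' : g' • S = c' • S := by rw [← mul_inv_cancel_left c' g', mul_smul, hASn _ hcg']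
    rw [e, e', smul_smul, inv_mul_cancel_right]
  -- the odd core
  by_cases hO : Cfsg.oddCore G = ⊥
  swap
  · set N := Cfsg.oddCore G
    have : N.Normal := Core.pPrimeCore_normal
    have hNo : Odd (Nat.card N) := Nat.coprime_two_right.mp Core.coprime_card_pPrimeCore
    have hNsol : Group.IsSolvable N := isSolvable_of_odd hNo
    refine isSolvable_of_quotient hNsol ?_
    set π := QuotientGroup.mk' N
    by_cases htc : π t ∈ center (G ⧸ N)
    · refine Group.isSolvable_of_surjective (f := π.comp A.subtype) fun q => ?_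
      obtain ⟨g, rfl⟩ := QuotientGroup.mk'_surjective N q
      have ht2 : orderOf t = 2 := Invol.orderOf_eq_two_iff.mpr
        ⟨fun h => ht.ncentral (h ▸ one_mem _), ht.sq⟩
      set t' := g * t * g⁻¹ with ht'
      have ht'2 : orderOf t' = 2 := by rw [ht', Invol.orderOf_conj, ht2]
      have hmem : t * t' ∈ N := by
        rw [← QuotientGroup.eq_one_iff]
        change π (t * t') = 1
        rw [map_mul, ht', map_mul, map_mul, map_inv, mem_center_iff.mp htc (π g),
          mul_inv_cancel_right, ← map_mul, ht.sq, map_one]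
      obtain ⟨d, hd, hdt⟩ := Invol.exists_conj_of_odd ht2 ht'2 (odd_orderOf_of_mem hNo hmem)
      have hda : d⁻¹ * g ∈ A := by
        refine hAmem.mpr ?_
        calc d⁻¹ * g * t = d⁻¹ * (g * t * g⁻¹) * g := by group
          _ = d⁻¹ * (d * t * d⁻¹) * g := by rw [hdt]
          _ = t * (d⁻¹ * g) := by group
      have hk : ∀ j : ℤ, π ((t * t') ^ j) = 1 := fun j =>
        (QuotientGroup.eq_one_iff _).mpr (zpow_mem hmem j)
      obtain ⟨j, hj | hj⟩ := Invol.closure_mem ht2 ht'2 hd
      · refine ⟨⟨d⁻¹ * g, hda⟩, ?_⟩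
        change π (d⁻¹ * g) = π g
        rw [map_mul, map_inv, hj, hk, inv_one, one_mul]
      · refine ⟨⟨t * (d⁻¹ * g), mul_mem htA hda⟩, ?_⟩
        change π (t * (d⁻¹ * g)) = π g
        rw [map_mul, map_mul, map_inv, hj, map_mul, hk, mul_one, mul_inv_cancel_left]
    · refine ih _ (hn ▸ Core.card_quotient_lt hO) (G ⧸ N) rfl (π t) ⟨?_, htc, ?_, ?_⟩
      · rw [← map_mul, ht.sq, map_one]
      · exact ht.odd.of_dvd_nat (index_centralizer_map_dvd (QuotientGroup.mk'_surjective N) t)
      · intro q hq hq2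
        obtain ⟨z, rfl, hz⟩ := exists_lift_real hNo hq
        refine ((ht.coprime z hz ?_).coprime_dvd_left
          (index_centralizer_map_dvd (QuotientGroup.mk'_surjective N) t)).coprime_dvd_right
          (index_centralizer_map_dvd (QuotientGroup.mk'_surjective N) z)
        intro h
        exact hq2 (by rw [← QuotientGroup.mk_mul, h, QuotientGroup.mk_one])
  -- the conjugates of `t`
  set O := Cfsg.pCore 2 G with hOdef
  have hOA : ∀ o ∈ O, Commute o t := fun o ho => hAmem.mp (hSA (Core.pCore_le_sylow S ho))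
  set T : Set G := {u | ∃ g : G, g * t * g⁻¹ = u} with hT
  have htT : t ∈ T := ⟨1, by group⟩
  have hTconj : ∀ g : G, ∀ u ∈ T, g * u * g⁻¹ ∈ T := by
    rintro g _ ⟨h, rfl⟩
    exact ⟨g * h, by group⟩
  have hTsq : ∀ u ∈ T, u * u = 1 := by
    rintro _ ⟨g, rfl⟩
    rw [conj_mul, ht.sq, mul_one, mul_inv_cancel]
  have hTinv : ∀ u ∈ T, u⁻¹ = u := fun u hu => inv_eq_of_mul_eq_one_right (hTsq u hu)
  have hTcomm : ∀ u ∈ T, Commute t u := by
    intro u₀ hu₀
    by_contra hne
    set P : Set G := {d | ∀ u ∈ T, u * d * u⁻¹ = d⁻¹} ∩ {d | ∃ u ∈ T, ∃ u' ∈ T, d = u * u'} with hP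
    have hd₀ : t * u₀ ∈ P := by
      refine ⟨fun u hu => ?_, t, htT, u₀, hu₀, rfl⟩
      obtain ⟨g, rfl⟩ := hu
      have hd2 : t * u₀ * (t * u₀) ≠ 1 := fun h => hne (by
        have h' := eq_inv_of_mul_eq_one_left h
        rw [mul_inv_rev, hti, hTinv _ hu₀] at h'
        exact h')
      have hd : t * (t * u₀) * t⁻¹ = (t * u₀)⁻¹ := by
        rw [mul_inv_rev, hTinv _ hu₀, ← mul_assoc, ht.sq, one_mul]
      obtain ⟨c, hc, hcg⟩ := hfac _ (isConj_iff.mpr ⟨t, hd⟩) hd2 g
      have e : g * t * g⁻¹ = c * t * c⁻¹ := by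
        calc g * t * g⁻¹ = c * ((c⁻¹ * g) * t * (c⁻¹ * g)⁻¹) * c⁻¹ := by group
          _ = c * t * c⁻¹ := by rw [(hAmem.mp hcg).eq, mul_inv_cancel_right]
      rw [e]
      calc c * t * c⁻¹ * (t * u₀) * (c * t * c⁻¹)⁻¹
          = c * t * (c⁻¹ * (t * u₀) * c) * t⁻¹ * c⁻¹ := by group
        _ = c * (t * (t * u₀) * t⁻¹) * c⁻¹ := by
            rw [mul_assoc c⁻¹, ← hc.eq, inv_mul_cancel_left]; group
        _ = (t * u₀)⁻¹ := by rw [hd, hc.inv_right.eq, mul_inv_cancel_right]
    set M : Subgroup G := closure P with hM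
    have hPc : ∀ d ∈ P, ∀ g : G, g * d * g⁻¹ ∈ P := by
      rintro d ⟨hd, u, hu, u', hu', rfl⟩ g
      refine ⟨fun v hv => ?_, g * u * g⁻¹, hTconj g u hu, g * u' * g⁻¹, hTconj g u' hu',
        conj_mul.symm⟩
      have h := hd (g⁻¹ * v * g) (by simpa using hTconj g⁻¹ v hv)
      calc v * (g * (u * u') * g⁻¹) * v⁻¹
          = g * ((g⁻¹ * v * g) * (u * u') * (g⁻¹ * v * g)⁻¹) * g⁻¹ := by group
        _ = (g * (u * u') * g⁻¹)⁻¹ := by rw [h, conj_inv]
    have hMn : M.Normal := by
      refine ⟨fun a ha g => ?_⟩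
      have hle : M ≤ M.comap (MulAut.conj g).toMonoidHom := by
        rw [hM, closure_le]
        exact fun d hd => subset_closure (hPc d hd g)
      exact hle ha
    have hPcomm : ∀ d ∈ P, ∀ e ∈ P, Commute d e := by
      rintro d ⟨hd, -⟩ e ⟨-, v, hv, v', hv', rfl⟩
      have h1 : ∀ w ∈ T, Commute (d) w ∨ w * d = d⁻¹ * w := fun w hw =>
        Or.inr (mul_inv_eq_iff_eq_mul.mp (hd w hw))
      have h2 : ∀ w ∈ T, w * d⁻¹ = d * w := fun w hw => by
        have e : w * d⁻¹ * w⁻¹ = d := by rw [← conj_inv, hd w hw, inv_inv]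
        exact mul_inv_eq_iff_eq_mul.mp e
      show d * (v * v') = v * v' * d
      rw [mul_assoc v, mul_inv_eq_iff_eq_mul.mp (hd v' hv'), ← mul_assoc v, h2 v hv, mul_assoc]
    have hMc : IsMulCommutative M := isMulCommutative_closure fun a ha b hb => (hPcomm a ha b hb).eq
    set e := (Nat.card M).factorization 2
    set K := Nat.card M / 2 ^ e with hK
    have hKo : Odd K := by
      rw [Nat.odd_iff, ← Nat.two_dvd_ne_zero]
      exact Nat.not_dvd_ordCompl Nat.prime_two Nat.card_pos.ne'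
    let L : Subgroup G :=
      { carrier := {a | a ∈ M ∧ a ^ K = 1}
        one_mem' := ⟨one_mem M, one_pow K⟩
        mul_mem' := fun {a b} ha hb => ⟨mul_mem ha.1 hb.1, by
          rw [(show Commute a b from congrArg Subtype.val
            (hMc.is_comm.comm ⟨a, ha.1⟩ ⟨b, hb.1⟩)).mul_pow, ha.2, hb.2, one_mul]⟩
        inv_mem' := fun {a} ha => ⟨inv_mem ha.1, by rw [inv_pow, ha.2, inv_one]⟩ }
    have hLn : L.Normal := ⟨fun a ha g => ⟨hMn.conj_mem a ha.1 g,
      by rw [conj_pow, ha.2, mul_one, mul_inv_cancel]⟩⟩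
    have hLo : (Nat.card L).Coprime 2 := by
      refine (Nat.prime_two.coprime_iff_not_dvd.mpr fun h2 => ?_).symm
      obtain ⟨a, ha⟩ := exists_prime_orderOf_dvd_card' 2 h2
      have h := orderOf_dvd_of_pow_eq_one a.2.2
      rw [orderOf_coe, ha] at h
      exact (Nat.not_even_iff_odd.mpr hKo) (even_iff_two_dvd.mpr h)
    have hL1 : L ≤ ⊥ := (Core.le_pPrimeCore hLo).trans hO.le
    have hMp : IsPGroup 2 M := by
      intro a
      refine ⟨e, Subtype.ext (mem_bot.mp (hL1 ⟨pow_mem a.2 _, ?_⟩))⟩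
      rw [SubmonoidClass.coe_pow, ← pow_mul, hK, Nat.ordProj_mul_ordCompl_eq_self]
      exact congrArg Subtype.val (pow_card_eq_one' (x := a))
    have hc := hOA _ (Core.le_pCore hMp (subset_closure hd₀))
    refine hne ?_
    calc t * u₀ = t * u₀ * t * t := by rw [mul_assoc, ht.sq, mul_one]
      _ = t * (t * u₀) * t := by rw [hc.eq]
      _ = u₀ * t := by rw [← mul_assoc, ht.sq, one_mul]
  have hTcomm' : ∀ u ∈ T, ∀ u' ∈ T, Commute u u' := by
    rintro _ ⟨g, rfl⟩ u' hu'
    have h := (hTcomm _ (hTconj g⁻¹ u' hu')).map (MulAut.conj g).toMonoidHom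
    simpa [mul_assoc] using h
  set K : Subgroup G := closure T with hK
  have hKc : IsMulCommutative K := isMulCommutative_closure fun a ha b hb => (hTcomm' a ha b hb).eq
  have hKcomm : ∀ {a b : G}, a ∈ K → b ∈ K → Commute a b := fun {a b} ha hb =>
    congrArg Subtype.val (hKc.is_comm.comm ⟨a, ha⟩ ⟨b, hb⟩)
  have hKsq : ∀ a ∈ K, a * a = 1 := by
    intro a ha
    induction ha using closure_induction with
    | mem a ha => exact hTsq a ha
    | one => exact one_mul 1
    | mul a b ha hb iha ihb =>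
      rw [(hKcomm ha hb).symm.mul_mul_mul_comm, iha, ihb, one_mul]
    | inv a _ iha => rw [← mul_inv_rev, iha, inv_one]
  have hKn : K.Normal := by
    refine ⟨fun a ha g => ?_⟩
    have hle : K ≤ K.comap (MulAut.conj g).toMonoidHom := by
      rw [hK, closure_le]
      exact fun u hu => subset_closure (hTconj g u hu)
    exact hle ha
  have hKO : K ≤ O := Core.le_pCore fun a => ⟨1, Subtype.ext (by
    rw [SubmonoidClass.coe_pow, pow_one, pow_two]; exact hKsq a a.2)⟩
  have hOK : ∀ o ∈ O, ∀ a ∈ K, Commute o a := by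
    intro o ho a ha
    suffices hle : K ≤ centralizer ({o} : Set G) from (mem_centralizer_singleton_iff.mp (hle ha)).symm
    rw [hK, closure_le]
    rintro _ ⟨g, rfl⟩
    refine mem_centralizer_singleton_iff.mpr ?_
    have ho' : g⁻¹ * o * g ∈ O := by
      simpa using (Core.pCore_normal (p := 2) (G := G)).conj_mem o ho g⁻¹
    calc g * t * g⁻¹ * o = g * (t * (g⁻¹ * o * g)) * g⁻¹ := by group
      _ = g * ((g⁻¹ * o * g) * t) * g⁻¹ := by rw [(hOA _ ho').eq]
      _ = o * (g * t * g⁻¹) := by group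
  set E : Subgroup G := closure {d | ∃ u ∈ T, ∃ u' ∈ T, d = u * u'} with hE
  have hEK : E ≤ K := by
    rw [hE, closure_le]
    rintro _ ⟨u, hu, u', hu', rfl⟩
    exact mul_mem (subset_closure hu) (subset_closure hu')
  have hEn : E.Normal := by
    refine ⟨fun a ha g => ?_⟩
    have hle : E ≤ E.comap (MulAut.conj g).toMonoidHom := by
      rw [hE, closure_le]
      rintro _ ⟨u, hu, u', hu', rfl⟩
      exact subset_closure ⟨g * u * g⁻¹, hTconj g u hu, g * u' * g⁻¹, hTconj g u' hu',
        conj_mul.symm⟩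
    exact hle ha
  have hEne : E ≠ ⊥ := by
    intro h
    refine ht.ncentral (mem_center_iff.mpr fun g => ?_)
    have hmem : t * (g * t * g⁻¹) ∈ E := subset_closure ⟨t, htT, _, hTconj g t htT, rfl⟩
    rw [h, mem_bot, mul_eq_one_iff_eq_inv, hTinv _ (hTconj g t htT)] at hmem
    exact (eq_mul_inv_iff_mul_eq.mp hmem).symm
  have hfix : ∀ x : G, IsConj x x⁻¹ → x ≠ 1 → Odd (orderOf x) →
      ∀ e ∈ E, Commute x e → e = 1 := by
    intro x hx hx1 hxo e he hxe
    set P : ℕ → G → G := fun i a => (a * x) ^ i * (x ^ i)⁻¹ with hP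
    have hPs : ∀ i a, P (i + 1) a = P i a * (x ^ i * a * (x ^ i)⁻¹) := fun i a => by
      simp only [hP, pow_succ]
      group
    have hPK : ∀ i, ∀ a ∈ K, P i a ∈ K := by
      intro i
      induction i with
      | zero => intro a _; simp [hP]
      | succ i ihi =>
        intro a ha
        rw [hPs]
        exact mul_mem (ihi a ha) (hKn.conj_mem a ha _)
    have hPm : ∀ i, ∀ a ∈ K, ∀ b ∈ K, P i (a * b) = P i a * P i b := by
      intro i
      induction i with
      | zero => intro a _ b _; simp [hP]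
      | succ i ihi =>
        intro a ha b hb
        rw [hPs, hPs, hPs, ihi a ha b hb, ← conj_mul,
          (hKcomm (hPK i b hb) (hKn.conj_mem a ha _)).mul_mul_mul_comm]
    set m := orderOf x with hm
    have hPx : ∀ a, P m a = (a * x) ^ m := fun a => by
      simp only [hP, hm, pow_orderOf_eq_one, inv_one, mul_one]
    have hztx : IsConj (t * x) (t * x)⁻¹ := by
      obtain ⟨g, hg⟩ := isConj_iff.mp hx
      obtain ⟨c, hc, hcg⟩ := hfac x hx (sq_ne_one_of_odd hxo hx1) g
      set a := c⁻¹ * g with ha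
      have hax : a * x * a⁻¹ = x⁻¹ := by
        calc a * x * a⁻¹ = c⁻¹ * (g * x * g⁻¹) * c := by rw [ha]; group
          _ = x⁻¹ := by rw [hg, mul_assoc, hc.inv_right.symm.eq, inv_mul_cancel_left]
      refine isConj_iff.mpr ⟨t * a, ?_⟩
      calc t * a * (t * x) * (t * a)⁻¹ = t * ((a * t * a⁻¹) * (a * x * a⁻¹)) * t⁻¹ := by group
        _ = t * (t * x⁻¹) * t⁻¹ := by rw [hax, (hAmem.mp hcg).eq, mul_inv_cancel_right]
        _ = (t * x)⁻¹ := by rw [← mul_assoc, ht.sq, one_mul, mul_inv_rev]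
    have hztx2 : t * x * (t * x) ≠ 1 := by
      intro h
      have hO2 : x * x ∈ O := by
        have e1 : x * x = (x * t⁻¹ * x⁻¹) * t⁻¹ * (t * x * (t * x)) := by group
        rw [e1, h, mul_one]
        exact mul_mem ((Core.pCore_normal (p := 2) (G := G)).conj_mem _
          (inv_mem (hKO (subset_closure htT))) x) (inv_mem (hKO (subset_closure htT)))
      exact sq_ne_one_of_odd hxo hx1 (eq_one_of_odd_of_mem Core.pCore_isPGroup
        (by rw [← pow_two]; exact odd_pow_orderOf hxo 2) hO2)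
    have hN : ∀ u ∈ T, P m (u * t) = 1 := by
      rintro _ ⟨g, rfl⟩
      obtain ⟨c, hc, hcg⟩ := hfac _ hztx hztx2 g
      have e1 : g * t * g⁻¹ = c * t * c⁻¹ := by
        calc g * t * g⁻¹ = c * ((c⁻¹ * g) * t * (c⁻¹ * g)⁻¹) * c⁻¹ := by group
          _ = c * t * c⁻¹ := by rw [(hAmem.mp hcg).eq, mul_inv_cancel_right]
      rw [e1]
      have hu : c * t * c⁻¹ ∈ T := hTconj c t htT
      have e2 : c * t * c⁻¹ * t * x = c * x * c⁻¹ := by
        calc c * t * c⁻¹ * t * x = c * t * c⁻¹ * (t * x) := by rw [mul_assoc]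
          _ = (c * t * c⁻¹)⁻¹ * (c * (t * x) * c⁻¹) := by
              rw [hTinv _ hu, hc.eq, mul_inv_cancel_right]
          _ = c * x * c⁻¹ := by group
      rw [hPx, e2, conj_pow, hm, pow_orderOf_eq_one, mul_one, mul_inv_cancel]
    have h1 : P m e = 1 := by
      refine (closure_induction (p := fun a _ => a ∈ K ∧ P m a = 1) ?_ ?_ ?_ ?_ he).2
      · rintro _ ⟨u, hu, u', hu', rfl⟩
        have hut : u * t ∈ K := mul_mem (subset_closure hu) (subset_closure htT)
        have hu't : u' * t ∈ K := mul_mem (subset_closure hu') (subset_closure htT)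
        refine ⟨mul_mem (subset_closure hu) (subset_closure hu'), ?_⟩
        have e1 : u * u' = (u * t) * (u' * t) := by
          rw [(hTcomm u' hu').symm.eq, mul_assoc u t, ← mul_assoc t t, ht.sq, one_mul]
        rw [e1, hPm m _ hut _ hu't, hN u hu, hN u' hu', one_mul]
      · refine ⟨one_mem K, ?_⟩
        rw [hPx, one_mul, hm, pow_orderOf_eq_one]
      · intro a b _ _ ha hb
        exact ⟨mul_mem ha.1 hb.1, by rw [hPm m a ha.1 b hb.1, ha.2, hb.2, one_mul]⟩
      · intro a _ ha
        rw [inv_eq_of_mul_eq_one_right (hKsq a ha.1)]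
        exact ha
    rw [hPx, hxe.symm.mul_pow, show x ^ m = 1 from pow_orderOf_eq_one x, mul_one] at h1
    obtain ⟨j, hj⟩ := hxo
    rwa [hj, pow_succ, pow_mul, pow_two, hKsq e (hEK he), one_pow, one_mul] at h1
  -- reduction to a perfect quotient
  obtain ⟨i, hi⟩ : ∃ i, derivedSeries G (i + 1) = derivedSeries G i := by
    have hex : ∃ c, ∃ i, Nat.card (derivedSeries G i) = c := ⟨_, 0, rfl⟩
    obtain ⟨i, hi⟩ := Nat.find_spec hex
    exact ⟨i, eq_of_le_of_card_ge (derivedSeries_antitone G i.le_succ)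
      (hi.trans_le (Nat.find_le ⟨i + 1, rfl⟩))⟩
  set D := derivedSeries G i with hD
  have hDn : D.Normal := derivedSeries_normal G i
  set N : Subgroup G := D ⊔ K with hN
  have hNn : N.Normal := sup_normal D K
  by_cases hNtop : N = ⊤
  swap
  · have hQ : Group.IsSolvable (G ⧸ N) := by
      refine ⟨⟨i, ?_⟩⟩
      rw [← map_derivedSeries_eq (QuotientGroup.mk'_surjective N) i, Subgroup.map_eq_bot_iff,
        QuotientGroup.ker_mk']
      exact le_sup_left
    refine isSolvable_of_quotient ?_ hQ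
    have htN : t ∈ N := le_sup_right (a := D) (subset_closure htT)
    by_cases htc : (⟨t, htN⟩ : N) ∈ center N
    · have hle : N ≤ A := fun a ha =>
        hAmem.mpr (congrArg Subtype.val (mem_center_iff.mp htc ⟨a, ha⟩))
      exact Group.isSolvable_of_isSolvable_injective (inclusion_injective hle)
    · have hlt : Nat.card N < n := hn ▸
        lt_of_le_of_ne (Subgroup.card_le_card_group N) fun h => hNtop (eq_top_of_card_eq N h)
      refine ih _ hlt N rfl ⟨t, htN⟩ ⟨Subtype.ext ht.sq, htc,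
        ht.odd.of_dvd_nat (index_centralizer_dvd_of_normal N ⟨t, htN⟩), fun x hx hx2 => ?_⟩
      exact ((ht.coprime (x : G) (MonoidHom.map_isConj N.subtype hx)
        fun h => hx2 (Subtype.ext h)).coprime_dvd_left
        (index_centralizer_dvd_of_normal N ⟨t, htN⟩)).coprime_dvd_right
        (index_centralizer_dvd_of_normal N x)
  set π := QuotientGroup.mk' O
  have hperf : commutator (G ⧸ O) = ⊤ := by
    have hDtop : D.map π = ⊤ := by
      have h := congrArg (Subgroup.map π) hNtop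
      rw [Subgroup.map_sup, map_top_of_surjective π (QuotientGroup.mk'_surjective O),
        (Subgroup.map_eq_bot_iff K).mpr (by rw [QuotientGroup.ker_mk']; exact hKO), sup_bot_eq] at h
      exact h
    rw [_root_.commutator_def, ← hDtop, ← map_commutator, hD, ← derivedSeries_succ, hi]
  have : Nontrivial E := (nontrivial_iff_ne_bot E).mpr hEne
  let _ : CommGroup E :=
    { (inferInstance : Group E) with
      mul_comm := fun a b => Subtype.ext (hKcomm (hEK a.2) (hEK b.2)).eq }
  let c₀ : G →* MulAut E := MulAut.conjNormal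
  have hker : O ≤ c₀.ker := fun o ho => MulEquiv.ext fun v => Subtype.ext <| by
    change o * (v : G) * o⁻¹ = v
    rw [(hOK o ho v (hEK v.2)).eq, mul_inv_cancel_right]
  have hV : ∀ v : E, v * v = 1 := fun v => Subtype.ext (hKsq v (hEK v.2))
  have hO2 : IsPGroup 2 O := Core.pCore_isPGroup
  have hfpf : RealFPF (QuotientGroup.lift O c₀ hker) := by
    intro q hq1 hqo hq v hv
    obtain ⟨x, rfl, hx, hxo⟩ := exists_lift_real_two hO2 hq hqo
    have hxv : x * (v : G) * x⁻¹ = v := congrArg Subtype.val hv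
    exact Subtype.ext (hfix x hx (fun h => hq1 (by rw [h]; rfl)) hxo v v.2
      (mul_inv_eq_iff_eq_mul.mp hxv))
  have hsol : Group.IsSolvable (G ⧸ O) :=
    isSolvable_of_fpf hV hfpf hperf Core.pCore_quotient_eq_bot
      (sylTrans_of_surjective htrans (QuotientGroup.mk'_surjective O) fun q hq _ hqo =>
        exists_lift_real_two hO2 hq hqo)
  exact isSolvable_of_quotient (isSolvable_of_subgroup_two hO2) hsol

theorem RealHyp.isSolvable [Finite G] {t : G} (ht : RealHyp t) : Group.IsSolvable G :=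
  realHyp_isSolvable_aux _ G rfl t ht

end Cfsg.Agent.RealGraph
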