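import Cfsg.Agent.RealGraph.Reduce

/-!
The subgroup generated by the `2`-elements and the class sizes of real elements.
-/

set_option autoImplicit false

namespace Cfsg.Agent.RealGraph

open Subgroup
open scoped Pointwise commutatorElement

universe u

variable {G : Type u} [Group G]

/-- The class of a real element which is no involution has even size. -/
theorem two_dvd_index {x : G} (hx : IsConj x x⁻¹) (hx2 : x * x ≠ 1) :
    2 ∣ (centralizer ({x} : Set G)).index := by
  obtain ⟨g, hg⟩ := isConj_iff.mp hx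
  have hne : x⁻¹ ≠ x := fun h => hx2 (by
    calc x * x = x⁻¹ * x := by rw [h]
      _ = 1 := inv_mul_cancel x)
  have hconj : ∀ {a : G}, a * x * a⁻¹ = x⁻¹ → a * x⁻¹ * a⁻¹ = x := fun {a} h => by
    rw [← conj_inv, h, inv_inv]
  let D : Subgroup G :=
    { carrier := {a | a * x * a⁻¹ = x ∨ a * x * a⁻¹ = x⁻¹}
      one_mem' := Or.inl (by group)
      mul_mem' := by
        intro a b ha hb
        have e : a * b * x * (a * b)⁻¹ = a * (b * x * b⁻¹) * a⁻¹ := by group
        show _ ∨ _
        rw [e]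
        rcases hb with hb | hb <;> rw [hb] <;> rcases ha with ha | ha
        · exact Or.inl ha
        · exact Or.inr ha
        · exact Or.inr (by rw [← conj_inv, ha])
        · exact Or.inl (hconj ha)
      inv_mem' := by
        intro a ha
        rcases ha with ha | ha
        · left
          calc a⁻¹ * x * a⁻¹⁻¹ = a⁻¹ * (a * x * a⁻¹) * a := by rw [ha]; group
            _ = x := by group
        · right
          calc a⁻¹ * x * a⁻¹⁻¹ = a⁻¹ * (a * x⁻¹ * a⁻¹) * a := by rw [hconj ha]; group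
            _ = x⁻¹ := by group }
  have hle : centralizer ({x} : Set G) ≤ D := fun a ha =>
    Or.inl (by rw [mem_centralizer_singleton_iff.mp ha, mul_inv_cancel_right])
  have h2 : (centralizer ({x} : Set G)).relIndex D = 2 := by
    rw [relIndex, index_eq_two_iff]
    refine ⟨⟨g, Or.inr hg⟩, fun b => ?_⟩
    simp only [mem_subgroupOf, Subgroup.coe_mul, mem_centralizer_singleton_iff,
      ← mul_inv_eq_iff_eq_mul]
    have e : (b : G) * g * x * ((b : G) * g)⁻¹ = (b : G) * x⁻¹ * (b : G)⁻¹ := by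
      rw [← hg]; group
    rw [e]
    rcases b.2 with hb | hb
    · refine Or.inr ⟨hb, fun h => hne ?_⟩
      rw [← conj_inv, hb] at h
      exact h
    · exact Or.inl ⟨hconj hb, fun h => hne (hb.symm.trans h)⟩
  rw [← relIndex_mul_index hle, h2]
  exact dvd_mul_right 2 _

variable (G) in
/-- The subgroup generated by the `2`-elements. -/
def twoClosure : Subgroup G := closure {g : G | ∃ k : ℕ, orderOf g = 2 ^ k}

theorem mem_twoClosure [Finite G] {g : G} {k : ℕ} (h : g ^ 2 ^ k = 1) : g ∈ twoClosure G := by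
  obtain ⟨i, -, hi⟩ := (Nat.dvd_prime_pow Nat.prime_two).mp (orderOf_dvd_of_pow_eq_one h)
  exact subset_closure ⟨i, hi⟩

theorem twoClosure_normal [Finite G] : (twoClosure G).Normal := by
  refine ⟨fun a ha g => ?_⟩
  have hle : twoClosure G ≤ (twoClosure G).comap (MulAut.conj g).toMonoidHom := by
    rw [twoClosure, closure_le]
    rintro b ⟨k, hk⟩
    exact subset_closure ⟨k, ((MulAut.conj g).orderOf_eq b).trans hk⟩
  exact hle ha

theorem twoClosure_map [Finite G] {H : Type u} [Group H] {f : G →* H}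
    (hf : Function.Surjective f) : twoClosure H ≤ (twoClosure G).map f := by
  rw [twoClosure, closure_le]
  rintro q ⟨k, hk⟩
  obtain ⟨g, rfl⟩ := hf q
  obtain ⟨m, e, hm, hgm, -⟩ := exists_odd_pow g
  obtain ⟨j, hj⟩ := exists_pow_eq_self_of_coprime (x := f g) (n := m)
    (by rw [hk]; exact (Nat.coprime_two_right.mpr hm).pow_right k)
  exact ⟨(g ^ m) ^ j, pow_mem (mem_twoClosure hgm) j, by rw [map_pow, map_pow, hj]⟩

/-- A real element of odd order lies in the subgroup generated by the `2`-elements and is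
inverted inside it. -/
theorem real_odd_mem [Finite G] {x : G} (hx : IsConj x x⁻¹) (hxo : Odd (orderOf x)) :
    x ∈ twoClosure G ∧ ∃ g ∈ twoClosure G, g * x * g⁻¹ = x⁻¹ := by
  have := twoClosure_normal (G := G)
  obtain ⟨c, hc⟩ := isConj_iff.mp hx
  obtain ⟨m, k, hm, hgm, -⟩ := exists_odd_pow c
  have hg := conj_odd_pow hc hm
  have hgK := mem_twoClosure hgm
  refine ⟨?_, _, hgK, hg⟩
  have h2 : (x * x)⁻¹ ∈ twoClosure G := by
    rw [mul_inv_rev]
    nth_rewrite 1 [← hg]
    rw [show c ^ m * x * (c ^ m)⁻¹ * x⁻¹ = c ^ m * (x * (c ^ m)⁻¹ * x⁻¹) by group]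
    exact mul_mem hgK (this.conj_mem _ (inv_mem hgK) x)
  obtain ⟨j, hj⟩ := exists_pow_eq_self_of_coprime (x := x) (n := 2)
    (Nat.coprime_two_left.mpr hxo)
  rw [← hj]
  exact pow_mem (by rw [pow_two]; exact inv_mem_iff.mp h2) j

theorem not_dvd_card_twoClosure_aux : ∀ (n : ℕ) (G : Type u) [Group G] [Finite G],
    Nat.card G = n → Group.IsSolvable G → ∀ q : ℕ, q.Prime → q ≠ 2 → ∀ S : Sylow 2 G,
      ¬ q ∣ (normalizer (S : Set G)).index → ¬ q ∣ Nat.card (twoClosure G) := by
  intro n
  induction n using Nat.strong_induction_on with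
  | _ n ih =>
  intro G _ _ hn hsol q hq hq2 S hS
  have := Fact.mk Nat.prime_two
  have := Fact.mk hq
  rcases subsingleton_or_nontrivial G with hG | hG
  · intro h
    rw [Nat.card_of_subsingleton (1 : twoClosure G)] at h
    exact hq.ne_one (Nat.dvd_one.mp h)
  obtain ⟨p, hp⟩ : ∃ p : Nat.Primes, Cfsg.pCore (p : ℕ) G ≠ ⊥ := by
    by_contra hcon
    push Not at hcon
    refine Core.fittingSubgroup_ne_bot (G := G) ?_
    rw [Core.fittingSubgroup_eq_iSup_pCore]
    exact iSup_eq_bot.mpr hcon
  have := Fact.mk p.2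
  set N := Cfsg.pCore (p : ℕ) G with hN
  set π := QuotientGroup.mk' N with hπ
  have hsurj : Function.Surjective π := QuotientGroup.mk'_surjective N
  have hidx : ¬ q ∣ (normalizer ((Sylow.mapSurjective hsurj S : Sylow 2 (G ⧸ N)) : Set (G ⧸ N))).index := by
    intro h
    refine hS ((h.trans (index_dvd_of_le ?_)).trans
      ((normalizer (S : Set G)).index_map_dvd hsurj))
    exact le_normalizer_map π
  have hih := ih _ (hn ▸ Core.card_quotient_lt hp) (G ⧸ N) rfl inferInstance q hq hq2 _ hidx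
  set K := twoClosure G with hK
  have hKn : K.Normal := twoClosure_normal
  have hNK : ¬ q ∣ Nat.card (K.map π) := fun h =>
    hih (h.trans (card_dvd_of_le (by
      rw [map_le_iff_le_comap, hK, twoClosure, closure_le]
      rintro g ⟨k, hk⟩
      exact mem_twoClosure (k := k) (by rw [← map_pow, ← hk, pow_orderOf_eq_one, map_one]))))
  have hrel : ¬ q ∣ N.relIndex K := by
    rwa [← QuotientGroup.ker_mk' N, relIndex_ker]
  by_cases hpq : (p : ℕ) = q
  swap
  · intro h
    have h1 := card_mul_index (N.subgroupOf K)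
    rw [← h1] at h
    rcases hq.dvd_mul.mp h with h | h
    · obtain ⟨e, he⟩ := IsPGroup.iff_card.mp
        ((Core.pCore_isPGroup (p := (p : ℕ)) (G := G)).comap_subtype (K := K))
      change q ∣ Nat.card (N.subgroupOf K) at h
      rw [show Nat.card (N.subgroupOf K) = (p : ℕ) ^ e from he] at h
      exact hpq ((Nat.prime_dvd_prime_iff_eq hq p.2).mp (hq.dvd_of_dvd_pow h)).symm
    · exact hrel h
  -- `N` is a `q`-group inside `normalizer S`
  have hNq : IsPGroup q N := hpq ▸ Core.pCore_isPGroup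
  have hNS : N ≤ normalizer (S : Set G) := by
    obtain ⟨Q⟩ := (inferInstance : Nonempty (Sylow q (normalizer (S : Set G))))
    have hQ : ¬ q ∣ ((Q : Subgroup _).map (normalizer (S : Set G)).subtype).index := by
      rw [index_map_subtype]
      exact fun h => (hq.dvd_mul.mp h).elim Q.not_dvd_index hS
    refine (hNq.le_sylow_of_normal ((Q.2.map _).toSylow hQ)).trans ?_
    rw [IsPGroup.toSylow_coe]
    exact map_subtype_le _
  have hNn : N.Normal := inferInstance
  have hcS : ∀ v ∈ N, ∀ s ∈ S, Commute v s := by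
    intro v hv s hs
    have h1 : ⁅v, s⁆ ∈ N := by
      rw [commutatorElement_def, show v * s * v⁻¹ * s⁻¹ = v * (s * v⁻¹ * s⁻¹) by group]
      exact mul_mem hv (hNn.conj_mem _ (inv_mem hv) s)
    have h2 : ⁅v, s⁆ ∈ (S : Subgroup G) := by
      rw [commutatorElement_def]
      exact mul_mem ((mem_set_normalizer_iff.mp (hNS hv) s).mp hs) (inv_mem hs)
    obtain ⟨i, hi⟩ := hNq ⟨_, h1⟩
    refine commutatorElement_eq_one_iff_commute.mp (eq_one_of_odd_of_mem S.2 ?_ h2)
    exact odd_orderOf_of_dvd ((hq.odd_of_ne_two hq2).pow (n := i)) (congrArg Subtype.val hi)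
  have hcK : ∀ v ∈ N, ∀ g ∈ K, Commute v g := by
    intro v hv
    suffices hle : K ≤ centralizer ({v} : Set G) from fun g hg =>
      (mem_centralizer_singleton_iff.mp (hle hg)).symm
    rw [hK, twoClosure, closure_le]
    rintro g ⟨k, hk⟩
    have hp2 : IsPGroup 2 (zpowers g) := IsPGroup.of_card (n := k) (by rw [Nat.card_zpowers, hk])
    obtain ⟨h, -, hle⟩ := exists_smul_of_isPGroup hp2 le_top (S := S) le_top
    have hs := mem_smul_sylow.mp (hle (mem_zpowers g))
    have hv' : h⁻¹ * v * h ∈ N := by simpa using hNn.conj_mem v hv h⁻¹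
    refine mem_centralizer_singleton_iff.mpr ?_
    have := (hcS _ hv' _ hs).map (MulAut.conj h).toMonoidHom
    simpa [mul_assoc] using this.eq.symm
  -- the Sylow `q`-subgroup of `K` is central
  intro hd
  have hQp : IsPGroup q (N.subgroupOf K) := hNq.comap_subtype
  set Q : Sylow q K := hQp.toSylow hrel
  have hQc : normalizer (Q : Set K) ≤ centralizer (Q : Set K) := by
    intro a _ b hb
    exact Subtype.ext (hcK b hb a a.2).eq
  have hcompl := MonoidHom.ker_transferSylow_isComplement' Q hQc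
  have htop : (MonoidHom.transferSylow Q hQc).ker = ⊤ := by
    have hgen : ∀ g : K, g ∈ closure (((↑) : K → G) ⁻¹' {g : G | ∃ k : ℕ, orderOf g = 2 ^ k}) :=
      fun g => by
        have h : ((⊤ : Subgroup K)) = closure (((↑) : K → G) ⁻¹'
            {g : G | ∃ k : ℕ, orderOf g = 2 ^ k}) := closure_closure_coe_preimage.symm
        exact h ▸ mem_top g
    refine top_le_iff.mp fun g _ => (closure_le _).mpr ?_ (hgen g)
    intro a ha
    obtain ⟨k, hk⟩ := ha
    rw [SetLike.mem_coe, MonoidHom.mem_ker]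
    obtain ⟨i, hi⟩ := Q.2 (MonoidHom.transferSylow Q hQc a)
    have hk' : a ^ 2 ^ k = 1 := Subtype.ext (by
      rw [SubmonoidClass.coe_pow, ← hk, pow_orderOf_eq_one]; rfl)
    refine eq_one_of_odd_of_two_pow (k := k)
      (odd_orderOf_of_dvd ((hq.odd_of_ne_two hq2).pow (n := i)) hi) ?_
    rw [← map_pow, hk', map_one]
  rw [htop, isComplement'_top_left] at hcompl
  exact Q.ne_bot_of_dvd_card hd hcompl

/-- If `q` is an odd prime not dividing the number of Sylow `2`-subgroups of a soluble group, the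
subgroup generated by the `2`-elements is a `q'`-group. -/
theorem not_dvd_card_twoClosure [Finite G] (hsol : Group.IsSolvable G) {q : ℕ} (hq : q.Prime)
    (hq2 : q ≠ 2) (S : Sylow 2 G) (hS : ¬ q ∣ (normalizer (S : Set G)).index) :
    ¬ q ∣ Nat.card (twoClosure G) :=
  not_dvd_card_twoClosure_aux _ G rfl hsol q hq hq2 S hS

/-- When every real element has a class of odd size, the prime graph of the real class sizes is
connected. -/
theorem exists_even_index [Finite G] {P₁ P₂ : ℕ → Prop}
    (hcov : ∀ (q : ℕ) (x : G), q.Prime → IsConj x x⁻¹ → q ∣ (centralizer ({x} : Set G)).index →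
      P₁ q ∨ P₂ q)
    (hedge : ∀ (a b : ℕ) (x : G), P₁ a → P₂ b → IsConj x x⁻¹ →
      ¬ (a ∣ (centralizer ({x} : Set G)).index ∧ b ∣ (centralizer ({x} : Set G)).index))
    {v w : G} {a b : ℕ} (ha : a.Prime) (hb : b.Prime) (hPa : P₁ a) (hPb : P₂ b)
    (hv : IsConj v v⁻¹) (hw : IsConj w w⁻¹) (hav : a ∣ (centralizer ({v} : Set G)).index)
    (hbw : b ∣ (centralizer ({w} : Set G)).index) :
    ∃ x : G, IsConj x x⁻¹ ∧ 2 ∣ (centralizer ({x} : Set G)).index := by
  by_contra hcon
  push Not at hcon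
  have := Fact.mk Nat.prime_two
  have hsq : ∀ x : G, IsConj x x⁻¹ → x * x = 1 := fun x hx => by
    by_contra h
    exact hcon x hx (two_dvd_index hx h)
  obtain ⟨S⟩ := (inferInstance : Nonempty (Sylow 2 G))
  have hSn : (S : Subgroup G).Normal := (Cfsg.Agent.S3861.result S).mp fun x hx1 hxo hx =>
    sq_ne_one_of_odd hxo hx1 (hsq x hx)
  have := Sylow.unique_of_normal S hSn
  have hC : ∀ x : G, IsConj x x⁻¹ → x ∈ S ∧ ∀ s ∈ S, Commute x s := by
    intro x hx
    obtain ⟨T, hT⟩ : ∃ T : Sylow 2 G, x ∈ T := by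
      obtain ⟨T, hT⟩ := (IsPGroup.exists_le_sylow (P := zpowers x) (p := 2) (by
        rintro ⟨c, hc⟩
        obtain ⟨i, rfl⟩ := mem_zpowers_iff.mp hc
        exact ⟨1, Subtype.ext (by
          rw [SubmonoidClass.coe_pow, pow_one, ← zpow_natCast, ← zpow_mul, mul_comm, zpow_mul,
            zpow_natCast, pow_two, hsq x hx, one_zpow]; rfl)⟩))
      exact ⟨T, hT (mem_zpowers x)⟩
    refine ⟨Subsingleton.elim T S ▸ hT, fun s hs => ?_⟩
    obtain ⟨Q⟩ := (inferInstance : Nonempty (Sylow 2 (centralizer ({x} : Set G))))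
    have hQ : ¬ 2 ∣ ((Q : Subgroup _).map (centralizer ({x} : Set G)).subtype).index := by
      rw [index_map_subtype]
      exact fun h => (Nat.prime_two.dvd_mul.mp h).elim Q.not_dvd_index (hcon x hx)
    have hle : (S : Subgroup G) ≤ centralizer ({x} : Set G) := by
      rw [Subsingleton.elim S ((Q.2.map _).toSylow hQ), IsPGroup.toSylow_coe]
      exact map_subtype_le _
    exact (show Commute s x from mem_centralizer_singleton_iff.mp (hle hs)).symm
  have hcomm : ∀ x y : G, IsConj x x⁻¹ → IsConj y y⁻¹ → Commute x y := fun x y hx hy =>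
    (hC x hx).2 y (hC y hy).1
  have hmul : ∀ x y : G, IsConj x x⁻¹ → IsConj y y⁻¹ → IsConj (x * y) (x * y)⁻¹ := by
    intro x y hx hy
    rw [inv_eq_of_mul_eq_one_right (show x * y * (x * y) = 1 by
      rw [(hcomm y x hy hx).mul_mul_mul_comm, hsq x hx, hsq y hy, one_mul])]
  have hconj : ∀ x g : G, IsConj x x⁻¹ → IsConj (g * x * g⁻¹) (g * x * g⁻¹)⁻¹ := fun x g hx => by
    rw [inv_eq_of_mul_eq_one_right (show g * x * g⁻¹ * (g * x * g⁻¹) = 1 by
      rw [conj_mul, hsq x hx, mul_one, mul_inv_cancel])]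
  have hpair : ∀ x y : G,
      ((centralizer ({x} : Set G)).index).Coprime (centralizer ({y} : Set G)).index →
      ∀ g h : G, ∃ k : G, k * x * k⁻¹ = g * x * g⁻¹ ∧ k * y * k⁻¹ = h * y * h⁻¹ := by
    intro x y hc g h
    obtain ⟨c, hc, d, hd, e⟩ := Core.exists_mul_eq_of_coprime hc (g⁻¹ * h)
    refine ⟨g * c, ?_, ?_⟩
    · calc g * c * x * (g * c)⁻¹ = g * (c * x) * c⁻¹ * g⁻¹ := by group
        _ = g * (x * c) * c⁻¹ * g⁻¹ := by rw [mem_centralizer_singleton_iff.mp hc]
        _ = g * x * g⁻¹ := by group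
    · have e' : h = g * c * d := by
        rw [mul_assoc, ← e, mul_inv_cancel_left]
      rw [e']
      calc g * c * y * (g * c)⁻¹ = g * c * (y * d) * d⁻¹ * (g * c)⁻¹ := by group
        _ = g * c * (d * y) * d⁻¹ * (g * c)⁻¹ := by rw [mem_centralizer_singleton_iff.mp hd]
        _ = g * c * d * y * (g * c * d)⁻¹ := by group
  have hmain : ∀ v w : G, IsConj v v⁻¹ → IsConj w w⁻¹ → (centralizer ({w} : Set G)).index ≠ 1 →
      ((centralizer ({v} : Set G)).index).Coprime (centralizer ({w} : Set G)).index →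
      ((centralizer ({v * w} : Set G)).index).Coprime (centralizer ({w} : Set G)).index →
      False := by
    intro v w hv hw hw1 h1 h2
    obtain ⟨g, hg⟩ : ∃ g : G, g * w * g⁻¹ ≠ w := by
      by_contra hcon
      push Not at hcon
      refine hw1 (index_eq_one.mpr (top_le_iff.mp fun g _ => ?_))
      exact mem_centralizer_singleton_iff.mpr (mul_inv_eq_iff_eq_mul.mp (hcon g))
    set d := w * (g * w * g⁻¹) with hd
    have hd2 : d * d = 1 := by
      rw [hd, (hcomm _ w (hconj w g hw) hw).mul_mul_mul_comm, hsq w hw,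
        hsq _ (hconj w g hw), one_mul]
    have hd1 : d ≠ 1 := by
      intro h
      rw [hd, mul_eq_one_iff_eq_inv, inv_eq_of_mul_eq_one_right (hsq _ (hconj w g hw))] at h
      exact hg h.symm
    have hclosed : ∀ a : G, IsConj v a → IsConj v (a * d) := by
      intro a ha
      obtain ⟨p, rfl⟩ := isConj_iff.mp ha
      obtain ⟨k, hk1, hk2⟩ := hpair v w h1 p 1
      rw [one_mul, inv_one, mul_one] at hk2
      obtain ⟨k', hk1', hk2'⟩ := hpair (v * w) w h2 k g
      refine isConj_iff.mpr ⟨k', ?_⟩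
      have e1 : k' * v * k'⁻¹ * (k' * w * k'⁻¹) = k * v * k⁻¹ * (k * w * k⁻¹) := by
        rw [conj_mul, conj_mul]; exact hk1'
      rw [hk1, hk2, hk2'] at e1
      have hgw : (g * w * g⁻¹)⁻¹ = g * w * g⁻¹ :=
        inv_eq_of_mul_eq_one_right (hsq _ (hconj w g hw))
      calc k' * v * k'⁻¹ = k' * v * k'⁻¹ * (g * w * g⁻¹) * (g * w * g⁻¹)⁻¹ := by group
        _ = p * v * p⁻¹ * w * (g * w * g⁻¹) := by rw [e1, hgw]
        _ = p * v * p⁻¹ * d := by rw [hd, mul_assoc _ w]
    classical
    let X := {a : G // IsConj v a}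
    have := Fintype.ofFinite X
    let σ : Equiv.Perm X :=
      { toFun := fun a => ⟨a.1 * d, hclosed a.1 a.2⟩
        invFun := fun a => ⟨a.1 * d, hclosed a.1 a.2⟩
        left_inv := fun a => Subtype.ext (by simp [mul_assoc, hd2])
        right_inv := fun a => Subtype.ext (by simp [mul_assoc, hd2]) }
    have hσ : σ ^ 2 ^ 1 = 1 := Equiv.ext fun a => Subtype.ext (by
      rw [pow_one, pow_two, Equiv.Perm.mul_apply]
      change a.1 * d * d = a.1
      rw [mul_assoc, hd2, mul_one])
    have hodd : ¬ 2 ∣ Fintype.card X := by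
      have hcard : (centralizer ({v} : Set G)).index = Nat.card X := by
        rw [index_eq_card]
        refine Nat.card_congr (Equiv.ofBijective
          (fun c => (⟨Quotient.liftOn' c (fun g => g * v * g⁻¹) (fun p q h => ?_), ?_⟩ : X)) ⟨?_, ?_⟩)
        · rw [QuotientGroup.leftRel_apply, mem_centralizer_singleton_iff] at h
          calc p * v * p⁻¹ = p * (v * (p⁻¹ * q)) * q⁻¹ := by group
            _ = p * ((p⁻¹ * q) * v) * q⁻¹ := by rw [h]
            _ = q * v * q⁻¹ := by group
        · induction c using QuotientGroup.induction_on with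
          | _ c => exact isConj_iff.mpr ⟨c, rfl⟩
        · intro c c' h
          induction c using QuotientGroup.induction_on with
          | _ c =>
            induction c' using QuotientGroup.induction_on with
            | _ c' =>
              have h' : c * v * c⁻¹ = c' * v * c'⁻¹ := congrArg Subtype.val h
              refine QuotientGroup.eq.mpr (mem_centralizer_singleton_iff.mpr ?_)
              calc c⁻¹ * c' * v = c⁻¹ * (c' * v * c'⁻¹) * c' := by group
                _ = c⁻¹ * (c * v * c⁻¹) * c' := by rw [h']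
                _ = v * (c⁻¹ * c') := by group
        · rintro ⟨a, ha⟩
          obtain ⟨c, rfl⟩ := isConj_iff.mp ha
          exact ⟨c, Subtype.ext rfl⟩
      rw [← Nat.card_eq_fintype_card, ← hcard]
      exact hcon v hv
    obtain ⟨a, ha⟩ := Equiv.Perm.exists_fixed_point_of_prime (p := 2) (n := 1) hodd hσ
    exact hd1 (mul_eq_left.mp (congrArg Subtype.val ha))
  have hne : ∀ {p : ℕ} {x : G}, p.Prime → p ∣ (centralizer ({x} : Set G)).index →
      (centralizer ({x} : Set G)).index ≠ 1 := fun hp h h1 =>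
    hp.ne_one (Nat.dvd_one.mp (h1 ▸ h))
  have hvw : ((centralizer ({v} : Set G)).index).Coprime (centralizer ({w} : Set G)).index := by
    refine Nat.coprime_of_dvd fun p hp hpv hpw => ?_
    rcases hcov p v hp hv hpv with h | h
    · exact hedge p b w h hPb hw ⟨hpw, hbw⟩
    · exact hedge a p v hPa h hv ⟨hav, hpv⟩
  by_cases hz : ∃ p : ℕ, P₁ p ∧ p ∣ (centralizer ({v * w} : Set G)).index
  · obtain ⟨p₀, hp₀, hd₀⟩ := hz
    refine hmain v w hv hw (hne hb hbw) hvw (Nat.coprime_of_dvd fun p hp hpz hpw => ?_)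
    rcases hcov p w hp hw hpw with h | h
    · exact hedge p b w h hPb hw ⟨hpw, hbw⟩
    · exact hedge p₀ p (v * w) hp₀ h (hmul v w hv hw) ⟨hd₀, hpz⟩
  · push Not at hz
    refine hmain w v hw hv (hne ha hav) hvw.symm ?_
    rw [← (hcomm v w hv hw).eq]
    refine Nat.coprime_of_dvd fun p hp hpz hpv => ?_
    rcases hcov p v hp hv hpv with h | h
    · exact hz p h hpz
    · exact hedge a p v hPa h hv ⟨hav, hpv⟩

end Cfsg.Agent.RealGraph
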